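import Cfsg.Agent.Lib.Lie.Mult.Orth.Base
import Cfsg.Agent.S0791

/-!
# Schur multipliers of the simple orthogonal groups
-/

set_option autoImplicit false
set_option linter.all false

namespace CfsgLib.Lie.Mult.Orth

open scoped Matrix commutatorElement
open Matrix Cfsg.Geo CfsgLib.Orth CfsgLib.Perm.Asch CfsgLib.Perm.Trans CfsgLib.Perm.Trans.Quad

universe u

variable {F : Type u} [Field F] [Fintype F] {ι : Type} [Fintype ι] [DecidableEq ι]
variable {Q : (ι → F) → F}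

/-- a bound for all forms on the coordinate space serves every index type -/
theorem bound_any (hQ : IsNondegenerateQuadraticForm Q) (h3 : 3 ≤ Fintype.card ι) {n : ℕ}
    (hn : Fintype.card ι = n) (hex : Fintype.card F ≠ 2 ∨ n ≠ 4) {b : ℕ}
    (h : ∀ R : (Fin n → F) → F, IsNondegenerateQuadraticForm R → SBound ↥(Cfsg.Omega F R) b) :
    SBound ↥(Cfsg.Omega F Q) b := by
  obtain ⟨σ⟩ : Nonempty (ι ≃ Fin n) := ⟨(Fintype.equivFin ι).trans (finCongr hn)⟩
  obtain ⟨e, he⟩ : ∃ e : (Fin n → F) →ₗ[F] (ι → F), e = (LinearEquiv.funCongrLeft F F σ).toLinearMap := ⟨_, rfl⟩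
  have hinj : Function.Injective e := he ▸ (LinearEquiv.funCongrLeft F F σ).injective
  have hr : LinearMap.range e = ⊤ := he ▸ LinearEquiv.range _
  have hnd : NdOn Q (LinearMap.range e) := hr ▸ ndOn_top hQ
  obtain ⟨φ, -⟩ := exists_omega_equiv hQ e hinj hnd (by rw [Fintype.card_fin]; omega) (by omega)
    (hn ▸ hex) (by rw [Fintype.card_fin]; exact hex)
  have htop : fixer Q (qperp hQ (LinearMap.range e) : Set (ι → F)) = ⊤ := by
    refine eq_top_iff.2 fun g _ => ?_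
    rw [mem_fixer]
    intro x hx
    have hx0 : x = 0 := by
      by_contra hne
      obtain ⟨y, hy⟩ := (hQ.nondegenerate x hne).2
      rw [pcomm] at hy
      first
        | exact hy (hx y (hr ▸ Submodule.mem_top))
        | exact hy (by rw [pcomm]; exact hx y (hr ▸ Submodule.mem_top))
    rw [hx0, Matrix.mulVec_zero]
  exact (h _ (pull_nd hQ e hinj hnd)).congr
    (φ.symm.trans ((MulEquiv.subgroupCongr htop).trans Subgroup.topEquiv))

/-- odd characteristic -/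
theorem bound_odd (h2 : (2 : F) ≠ 0) (hQ : IsNondegenerateQuadraticForm Q)
    (h : (5 ≤ Fintype.card F ∧ 7 ≤ Fintype.card ι) ∨ (Fintype.card F = 3 ∧ 9 ≤ Fintype.card ι)) :
    SBound ↥(Cfsg.Omega F Q) 2 := by
  rcases h with ⟨h5, h7⟩ | ⟨h3, h9⟩
  · refine bound_any hQ (by omega) rfl (Or.inl (by omega)) (bound_up h2 (n₀ := 7) le_rfl ?_ _ h7)
    exact fun R hR => bound_of_plus h2 hR (m := 3) (by simp) (Or.inr ⟨rfl, h5⟩) (bound_plus_three h2)
  · refine bound_any hQ (by omega) rfl (Or.inl (by omega)) (bound_up h2 (n₀ := 9) (by omega) ?_ _ h9)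
    exact fun R hR => bound_of_plus h2 hR (m := 4) (by simp) (Or.inl le_rfl) (bound_plus_four_three h3)

/-- characteristic two: trivial multiplier -/
theorem multiplier_even (h2 : (2 : F) = 0) (hQ : IsNondegenerateQuadraticForm Q)
    (hev : Even (Fintype.card ι)) (h8 : 8 ≤ Fintype.card ι) (hbig : 4 ≤ Fintype.card F ∨ 10 ≤ Fintype.card ι) :
    Cfsg.HasCyclicSchurMultiplier (Cfsg.POmega F Q) 1 := by
  obtain ⟨a, -, ha⟩ := exists_qvalue hQ (ndOn_top hQ)
    (by rw [finrank_top, Module.finrank_fintype_fun_eq_card]; omega) 1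
  have hb := step_even ⟨hQ, one_ne_zero, Or.inr ⟨h2, rfl, hev, h8, hbig⟩⟩ h2 ha
  have hc := card_center_omega_two hQ (by omega) h2
  obtain ⟨e⟩ : Nonempty (↥(Cfsg.Omega F Q) ≃* Cfsg.POmega F Q) :=
    ⟨(QuotientGroup.quotientBot.symm.trans
      (QuotientGroup.quotientMulEquivOfEq (Subgroup.card_eq_one.1 hc).symm))⟩
  refine CfsgLib.Schur.hasCyclic_one_of_ker_eq_bot fun Γ _ _ τ hτ => Subgroup.card_eq_one.1 ?_
  exact le_antisymm (hb.congr e Γ τ hτ) Nat.card_pos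

theorem pred_mod_four {x : ℕ} (hx : x % 2 = 1) :
    (x % 4 = 1 → Nat.gcd 4 (x - 1) = 4 ∧ Nat.gcd 4 (x + 1) = 2) ∧
    (x % 4 = 3 → Nat.gcd 4 (x - 1) = 2 ∧ Nat.gcd 4 (x + 1) = 4) := by
  refine ⟨fun h => ⟨gcd_four_facts.1 ?_, gcd_four_facts.2.1 ?_⟩, fun h => ⟨gcd_four_facts.2.1 ?_, gcd_four_facts.1 ?_⟩⟩ <;>
    omega

theorem pow_odd_four {q l : ℕ} (hl : Even l) (hq : q % 2 = 1) : q ^ l % 4 = 1 := by
  obtain ⟨k, rfl⟩ := hl
  rw [← two_mul, pow_mul, Nat.pow_mod]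
  have : q ^ 2 % 4 = 1 := by
    rw [Nat.pow_mod]
    rcases (show q % 4 = 1 ∨ q % 4 = 3 by omega) with h | h <;> rw [h] <;> rfl
  rw [this, one_pow]; rfl

end CfsgLib.Lie.Mult.Orth
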