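import Cfsg.Agent.Lib.Lie.Mult.Orth.Sphere

/-!
# Lifts of the elements fixing two vectors agree

For a degenerate pair the elements fixing both are products of an Eichler element and an element fixing a
nondegenerate plane through the radical; both factors fix a third vector in nondegenerate position or lie in
a perfect subgroup.
-/

set_option autoImplicit false
set_option linter.all false

namespace CfsgLib.Lie.Mult.Orth

open scoped Matrix commutatorElement
open Matrix Cfsg.Geo CfsgLib.Orth CfsgLib.Perm.Asch CfsgLib.Perm.Trans CfsgLib.Perm.Trans.Quad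
open MulAction (stabilizer)

variable {ι : Type} [Fintype ι] [DecidableEq ι] {F : Type*} [Field F] [Fintype F]
variable {Q : (ι → F) → F} {c : F}

local notation "pol" => QuadraticMap.polar

variable (H : Range Q c)
include H

/-- a nonzero field element whose square avoids `4c²` -/
theorem exists_tau (h5 : 5 ≤ Fintype.card F) : ∃ τ : F, τ ≠ 0 ∧ τ * τ ≠ 4 * c * c := by
  classical
  obtain ⟨τ, -, hτ⟩ : ∃ τ ∈ (Finset.univ : Finset F), τ ∉ ({0, 2 * c, -(2 * c)} : Finset F) :=
    Finset.exists_mem_notMem_of_card_lt_card (lt_of_le_of_lt Finset.card_le_three (by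
      rw [Finset.card_univ]; omega))
  simp only [Finset.mem_insert, Finset.mem_singleton, not_or] at hτ
  refine ⟨τ, hτ.1, fun h => ?_⟩
  rcases mul_eq_zero.1 (show (τ - 2 * c) * (τ + 2 * c) = 0 by linear_combination h) with e | e
  · exact hτ.2.1 (sub_eq_zero.1 e)
  · exact hτ.2.2 (eq_neg_of_add_eq_zero_left e)

/-- an element fixing the pair and a well placed third vector -/
theorem good_of_third {u v z : Sph Q c} {k : Cfsg.Omega F Q} (hk : k ∈ StabStep.J (Cfsg.Omega F Q) u v)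
    (h1 : pol Q u.1 z.1 * pol Q u.1 z.1 ≠ 4 * c * c) (h2 : pol Q z.1 v.1 * pol Q z.1 v.1 ≠ 4 * c * c)
    (hz : (omv k : Matrix ι ι F) *ᵥ z.1 = z.1) : k ∈ StabStep.good (Cfsg.Omega F Q) u v :=
  Or.inr ⟨hk, z, pp_of_nd H u z h1, pp_of_nd H z v h2, mem_stab.2 hz⟩

theorem four_c_ne (h2 : (2 : F) ≠ 0) : (4 : F) * c * c ≠ 0 :=
  mul_ne_zero (mul_ne_zero (by rw [show (4 : F) = 2 * 2 by norm_num]; exact mul_ne_zero h2 h2) H.cne) H.cne

/-- the Eichler factor -/
theorem good_eichler {u v : Sph Q c} {r b : ι → F} {ε : F} (hv : v.1 = ε • u.1 + r) (hε : ε * ε = 1)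
    (hr : Q r = 0) (hru : pol Q r u.1 = 0) (hrb : pol Q r b = 0) (hub : pol Q u.1 b = 0)
    (hb : (2 : F) = 0 → u.1 ∉ Submodule.span F ({r, b} : Set (ι → F))) {h : Cfsg.Omega F Q}
    (hh : IsE Q r b (omv h)) : h ∈ StabStep.good (Cfsg.Omega F Q) u v := by
  have hQ := H.nd
  have hrr : pol Q r r = 0 := by rw [pself hQ, hr, mul_zero]
  have fix : ∀ z, pol Q z r = 0 → pol Q z b = 0 → (omv h : Matrix ι ι F) *ᵥ z = z := fun z h1 h2 => by
    rw [hh, h1, h2]
    simp
  have hJ : h ∈ StabStep.J (Cfsg.Omega F Q) u v := by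
    refine Subgroup.mem_inf.2 ⟨mem_stab.2 (fix _ (by rw [pcomm, hru]) hub), mem_stab.2 (fix _ ?_ ?_)⟩
    · rw [hv, padd_left hQ, psmul_left hQ, pcomm u.1 r, hru, hrr]; ring
    · rw [hv, padd_left hQ, psmul_left hQ, hub, hrb]; ring
  by_cases h2 : (2 : F) = 0
  · have hc := H.cone h2
    obtain ⟨p, hp, hpu⟩ := exists_qperp_ne hQ (hb h2)
    obtain ⟨T, hT⟩ : ∃ T, T = Submodule.span F ({u.1, p, r, b} : Set (ι → F)) := ⟨_, rfl⟩
    obtain ⟨q, hq, hqe⟩ := room_four H h2 (T := T) (hT ▸ finrank_four _ _ _ _) (u := u) (y := p)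
      (hT ▸ Submodule.subset_span (by simp)) (hT ▸ Submodule.subset_span (by simp))
      (by rw [hpu]; exact one_ne_zero) (c - Q p)
    rw [hT, mem_qperp_span] at hq
    have hpr : pol Q p r = 0 := hp r (Submodule.subset_span (by simp))
    have hpb : pol Q p b = 0 := hp b (Submodule.subset_span (by simp))
    have hz : Q (p + q) = c := by
      rw [qadd hQ, hqe, pcomm p q, hq p (by simp)]; ring
    have e1 : pol Q u.1 (p + q) = 1 := by
      rw [padd_right hQ, hpu, pcomm u.1 q, hq u.1 (by simp), add_zero]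
    have e2 : pol Q (p + q) r = 0 := by rw [padd_left hQ, hpr, hq r (by simp), add_zero]
    have h4 : (4 : F) * c * c = 0 := by rw [show (4 : F) = 2 * 2 by norm_num, h2]; ring
    refine good_of_third H hJ (z := ⟨p + q, hz⟩) ?_ ?_
      (fix _ e2 (by rw [padd_left hQ, hpb, hq b (by simp), add_zero]))
    · rw [e1, h4, one_mul]; exact one_ne_zero
    · rw [hv, padd_right hQ, psmul_right hQ, pcomm (p + q) u.1, e1, e2, h4, add_zero, mul_one, hε]
      exact one_ne_zero
  · obtain ⟨T, hT⟩ : ∃ T, T = Submodule.span F ({u.1, r, b} : Set (ι → F)) := ⟨_, rfl⟩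
    obtain ⟨z, hz, hze⟩ := room H (T := T) (hT ▸ finrank_triple _ _ _) (u := u)
      (hT ▸ Submodule.subset_span (by simp)) c
    rw [hT, mem_qperp_span] at hz
    refine good_of_third H hJ (z := ⟨z, hze⟩) ?_ ?_ (fix _ (hz r (by simp)) (hz b (by simp)))
    · rw [pcomm, hz u.1 (by simp), zero_mul]
      exact (four_c_ne H h2).symm
    · rw [hv, padd_right hQ, psmul_right hQ, hz u.1 (by simp), hz r (by simp), mul_zero, add_zero, zero_mul]
      exact (four_c_ne H h2).symm

/-- the factor fixing a hyperbolic plane -/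
theorem good_plane {u v : Sph Q c} {r s : ι → F} {ε : F} (hv : v.1 = ε • u.1 + r) (hε : ε * ε = 1)
    (hr : Q r = 0) (hs : Q s = 0) (hru : pol Q r u.1 = 0) (hsu : pol Q s u.1 = 0) (hrs : pol Q r s = 1)
    {g : Cfsg.Omega F Q} (hgu : (omv g : Matrix ι ι F) *ᵥ u.1 = u.1) (hgr : (omv g : Matrix ι ι F) *ᵥ r = r)
    (hgs : (omv g : Matrix ι ι F) *ᵥ s = s) : g ∈ StabStep.good (Cfsg.Omega F Q) u v := by
  have hQ := H.nd
  have hrr : pol Q r r = 0 := by rw [pself hQ, hr, mul_zero]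
  have hss : pol Q s s = 0 := by rw [pself hQ, hs, mul_zero]
  have hvJ : (omv g : Matrix ι ι F) *ᵥ v.1 = v.1 := by rw [hv, mulVec_add, mulVec_smul, hgu, hgr]
  have hJ : g ∈ StabStep.J (Cfsg.Omega F Q) u v := Subgroup.mem_inf.2 ⟨mem_stab.2 hgu, mem_stab.2 hvJ⟩
  obtain ⟨S, hS⟩ : ∃ S, S = fixer Q ({r, s, u.1} : Set (ι → F)) := ⟨_, rfl⟩
  have hg : g ∈ S := by
    rw [hS, mem_fixer]
    simp [hgu, hgr, hgs]
  have hSJ : S ≤ StabStep.J (Cfsg.Omega F Q) u v := by
    rw [J_eq, hS]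
    intro x hx
    rw [mem_fixer] at hx ⊢
    simp only [Set.mem_insert_iff, Set.mem_singleton_iff, forall_eq_or_imp, forall_eq] at hx ⊢
    exact ⟨hx.2.2, by rw [hv, mulVec_add, mulVec_smul, hx.2.2, hx.1]⟩
  have fin : S ≤ ⁅S, S⁆ → g ∈ StabStep.good (Cfsg.Omega F Q) u v := fun h =>
    Or.inl (Subgroup.commutator_mono hSJ hSJ (h hg))
  rcases H.cases with ⟨h2, h8 | ⟨h7, h5⟩⟩ | ⟨h2, hc, ⟨l, hl⟩, h8, hbig⟩
  · refine fin ?_
    rw [hS, ← fixer_span]
    refine fixer_perfect hQ (fun x hx hx0 => ?_) (le_trans (Nat.add_le_add_right (finrank_triple _ _ _) 5) h8)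
    obtain ⟨α, y, hy, rfl⟩ := Submodule.mem_span_insert.1 hx
    obtain ⟨β, γ, rfl⟩ := Submodule.mem_span_pair.1 hy
    have er : pol Q (α • r + (β • s + γ • u.1)) r = β := by
      simp only [padd_left hQ, psmul_left hQ, hrr, pcomm s r, hrs, pcomm u.1 r, hru]; ring
    have es : pol Q (α • r + (β • s + γ • u.1)) s = α := by
      simp only [padd_left hQ, psmul_left hQ, hrs, hss, pcomm u.1 s, hsu]; ring
    have eu : pol Q (α • r + (β • s + γ • u.1)) u.1 = γ * (2 * c) := by
      simp only [padd_left hQ, psmul_left hQ, hru, hsu, H.self]; ring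
    by_cases h1 : β = 0
    · by_cases h3 : α = 0
      · have h4 : γ ≠ 0 := fun h => hx0 (by rw [h1, h3, h, zero_smul, zero_smul, zero_smul, add_zero, add_zero])
        have h5 : γ * (2 * c) ≠ 0 := mul_ne_zero h4 (mul_ne_zero h2 H.cne)
        exact ⟨⟨u.1, Submodule.subset_span (by simp), by rw [pcomm, eu]; exact h5⟩,
          u.1, Submodule.subset_span (by simp), by rw [eu]; exact h5⟩
      · exact ⟨⟨s, Submodule.subset_span (by simp), by rw [pcomm, es]; exact h3⟩,
          s, Submodule.subset_span (by simp), by rw [es]; exact h3⟩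
    · exact ⟨⟨r, Submodule.subset_span (by simp), by rw [pcomm, er]; exact h1⟩,
        r, Submodule.subset_span (by simp), by rw [er]; exact h1⟩
  · obtain ⟨τ, hτ0, hτ⟩ := exists_tau H h5
    obtain ⟨z, hz⟩ : ∃ z, z = (c * τ⁻¹) • r + τ • s := ⟨_, rfl⟩
    have hzc : Q z = c := by
      rw [hz, qadd hQ, qsmul hQ, qsmul hQ, hr, hs, psmul_left hQ, psmul_right hQ, hrs]
      field_simp
      ring
    have ezu : pol Q u.1 z = 0 := by
      rw [hz, padd_right hQ, psmul_right hQ, psmul_right hQ, pcomm u.1 r, pcomm u.1 s, hru, hsu]; ring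
    have ezr : pol Q z r = τ := by
      rw [hz, padd_left hQ, psmul_left hQ, psmul_left hQ, hrr, pcomm s r, hrs]; ring
    refine good_of_third H hJ (z := ⟨z, hzc⟩) ?_ ?_ ?_
    · rw [ezu, zero_mul]; exact (four_c_ne H h2).symm
    · rw [hv, padd_right hQ, psmul_right hQ, pcomm z u.1, ezu, ezr, mul_zero, zero_add]
      exact hτ
    · show (omv g : Matrix ι ι F) *ᵥ z = z
      rw [hz, mulVec_add, mulVec_smul, mulVec_smul, hgr, hgs]
  · refine fin ?_
    obtain ⟨P, hP⟩ : ∃ P, P = Submodule.span F ({r, s} : Set (ι → F)) := ⟨_, rfl⟩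
    have hrP : r ∈ P := hP ▸ Submodule.subset_span (by simp)
    have hsP : s ∈ P := hP ▸ Submodule.subset_span (by simp)
    have hPnd : NdOn Q P := by
      intro x hx hx0
      rw [hP] at hx
      obtain ⟨α, β, rfl⟩ := Submodule.mem_span_pair.1 hx
      have er : pol Q (α • r + β • s) r = β := by
        rw [padd_left hQ, psmul_left hQ, psmul_left hQ, hrr, pcomm s r, hrs]; ring
      have es : pol Q (α • r + β • s) s = α := by
        rw [padd_left hQ, psmul_left hQ, psmul_left hQ, hrs, hss]; ring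
      by_cases h1 : β = 0
      · have h3 : α ≠ 0 := fun h => hx0 (by rw [h, h1, zero_smul, zero_smul, add_zero])
        exact ⟨⟨s, hsP, by rw [pcomm, es]; exact h3⟩, s, hsP, by rw [es]; exact h3⟩
      · exact ⟨⟨r, hrP, by rw [pcomm, er]; exact h1⟩, r, hrP, by rw [er]; exact h1⟩
    obtain ⟨e, he, hre⟩ := exists_coords (qperp hQ P)
    have hnd : NdOn Q (LinearMap.range e) := by rw [hre]; exact qperp_nd hQ hPnd
    have hPd : Module.finrank F P = 2 := by
      refine le_antisymm (hP ▸ finrank_pair _ _) ?_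
      have : Module.finrank F (Submodule.span F {r}) < Module.finrank F P :=
        Submodule.finrank_lt_finrank_of_lt (lt_of_le_of_ne ((Submodule.span_singleton_le_iff_mem _ _).2 hrP)
          fun e' => by
            obtain ⟨a, ha⟩ := Submodule.mem_span_singleton.1 (e' ▸ hsP)
            rw [← ha, psmul_right hQ, hrr, mul_zero] at hrs
            exact zero_ne_one hrs)
      rw [finrank_span_singleton (fun h => by rw [h, pzero_left hQ] at hrs; exact zero_ne_one hrs)] at this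
      omega
    have hd : Module.finrank F (qperp hQ P) + 2 = Fintype.card ι := by
      have h1 := finrank_qperp hQ P
      have h3 := CfsgLib.Orth.finrank_qperp_le hQ P
      omega
    obtain ⟨φ, hφ⟩ := exists_omega_equiv hQ e he hnd (by rw [Fintype.card_fin]; omega) H.hn H.hex
      (Or.inr (by rw [Fintype.card_fin]; omega))
    obtain ⟨u', hu'⟩ : u.1 ∈ LinearMap.range e := by
      rw [hre, hP, mem_qperp_span]
      simp [pcomm u.1 r, pcomm u.1 s, hru, hsu]
    obtain ⟨ψ⟩ := exists_stab_equiv (pull_nd hQ e he hnd) h2 (m := l - 2) (a := u')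
      (by rw [Fintype.card_fin]; omega) (by omega) (by show Q (e u') = 1; rw [hu', u.2, hc])
    refine perfect_pull ((Subgroup.subtype _).comp φ.symm.toMonoidHom) (symp_perfect ?_ ψ) ?_
    · rcases hbig with hq | h10
      · by_cases hl4 : l = 4
        · exact Or.inr ⟨by omega, by omega⟩
        · exact Or.inl (by omega)
      · exact Or.inl (by omega)
    · rw [hS]
      ext x
      constructor
      · rintro ⟨y, hy, rfl⟩
        intro w hw
        show (omv (φ.symm y).1 : Matrix ι ι F) *ᵥ w = w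
        rcases hw with hw | hw | hw
        · rw [hw]
          exact (φ.symm y).2 r (by rw [hre, qperp_qperp hQ hPnd]; exact hrP)
        · rw [hw]
          exact (φ.symm y).2 s (by rw [hre, qperp_qperp hQ hPnd]; exact hsP)
        · rw [show w = u.1 from hw, ← hu', hφ, MulEquiv.apply_symm_apply, hy u' rfl]
      · intro hx
        rw [mem_fixer] at hx
        have hxm : x ∈ fixer Q (qperp hQ (LinearMap.range e) : Set (ι → F)) := by
          rw [hre, qperp_qperp hQ hPnd, hP, fixer_span, mem_fixer]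
          intro w hw
          exact hx w (by rcases hw with hw | hw; exacts [Or.inl hw, Or.inr (Or.inl hw)])
        refine ⟨φ ⟨x, hxm⟩, fun w hw => he ?_, congrArg Subtype.val (φ.symm_apply_apply ⟨x, hxm⟩)⟩
        rw [Set.mem_singleton_iff] at hw
        rw [hw, ← hφ, hu']
        exact hx _ (by simp)

/-- lifts of elements fixing two vectors agree -/
theorem agree_all (u v : Sph Q c) :
    StabStep.J (Cfsg.Omega F Q) u v ≤ Subgroup.closure (StabStep.good (Cfsg.Omega F Q) u v) := by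
  have hQ := H.nd
  by_cases hnd : pol Q u.1 v.1 * pol Q u.1 v.1 ≠ 4 * c * c
  · exact fun k hk => Subgroup.subset_closure (Or.inl (pp_of_nd H u v hnd hk))
  push Not at hnd
  by_cases hpar : v.1 ∈ Submodule.span F {u.1}
  · obtain ⟨t, ht⟩ := Submodule.mem_span_singleton.1 hpar
    have hJ : StabStep.J (Cfsg.Omega F Q) u v = stabilizer (Cfsg.Omega F Q) u :=
      inf_eq_left.2 fun g hg => mem_stab.2 (by rw [← ht, mulVec_smul, mem_stab.1 hg])
    refine fun k hk => Subgroup.subset_closure (Or.inl ?_)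
    rw [hJ] at hk ⊢
    exact stab_perfect H u hk
  obtain ⟨ε, hε, hB⟩ : ∃ ε : F, ε * ε = 1 ∧ pol Q u.1 v.1 = 2 * c * ε := by
    by_cases h2 : (2 : F) = 0
    · refine ⟨1, one_mul 1, ?_⟩
      have hz : pol Q u.1 v.1 * pol Q u.1 v.1 = 0 := by
        rw [hnd, show (4 : F) = 2 * 2 by norm_num, h2]; ring
      rw [mul_self_eq_zero.1 hz, h2]; ring
    · refine ⟨pol Q u.1 v.1 * (2 * c)⁻¹, ?_, ?_⟩
      · have h2c : (2 * c) ≠ 0 := mul_ne_zero h2 H.cne
        rw [mul_mul_mul_comm, hnd, show (4 : F) * c * c = (2 * c) * (2 * c) by ring, mul_mul_mul_comm,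
          mul_inv_cancel₀ h2c, one_mul]
      · field_simp [H.cne]
  obtain ⟨r, hrdef⟩ : ∃ r, r = v.1 - ε • u.1 := ⟨_, rfl⟩
  have hv : v.1 = ε • u.1 + r := by rw [hrdef, add_sub_cancel]
  have hru : pol Q r u.1 = 0 := by
    rw [hrdef, psub_left hQ, psmul_left hQ, H.self, pcomm v.1 u.1, hB]; ring
  have hr : Q r = 0 := by
    rw [hrdef, qsub hQ, qsmul hQ, psmul_right hQ, pcomm v.1 u.1, u.2, v.2, hB]
    linear_combination (-c) * hε
  have hrnot : r ∉ Submodule.span F {u.1} := fun h => hpar (by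
    rw [hv]
    exact Submodule.add_mem _ (Submodule.smul_mem _ _ (Submodule.mem_span_singleton_self _)) h)
  obtain ⟨p, hp, hrp⟩ := exists_qperp_ne hQ hrnot
  have hpu : pol Q p u.1 = 0 := hp _ (Submodule.mem_span_singleton_self _)
  obtain ⟨s, hsdef⟩ : ∃ s, s = p - Q p • r := ⟨_, rfl⟩
  have hrr : pol Q r r = 0 := by rw [pself hQ, hr, mul_zero]
  have hrs : pol Q r s = 1 := by rw [hsdef, psub_right hQ, psmul_right hQ, hrr, hrp]; ring
  have hs : Q s = 0 := by
    rw [hsdef, qsub hQ, qsmul hQ, psmul_right hQ, pcomm p r, hrp, hr]; ring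
  have hsu : pol Q s u.1 = 0 := by rw [hsdef, psub_left hQ, psmul_left hQ, hpu, hru]; ring
  intro k hk
  obtain ⟨hku, hkv⟩ := Subgroup.mem_inf.1 hk
  rw [mem_stab] at hku hkv
  have hkr : (omv k : Matrix ι ι F) *ᵥ r = r := by rw [hrdef, mulVec_sub, mulVec_smul, hku, hkv]
  obtain ⟨d, hd⟩ : ∃ d, d = (omv k : Matrix ι ι F) *ᵥ s - s := ⟨_, rfl⟩
  have hdr : pol Q r d = 0 := by
    rw [hd, psub_right hQ]
    conv_lhs => arg 1; arg 2; rw [← hkr]
    rw [iso_pol (omv_iso k), sub_self]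
  have hdu : pol Q u.1 d = 0 := by
    rw [hd, psub_right hQ]
    conv_lhs => arg 1; arg 2; rw [← hku]
    rw [iso_pol (omv_iso k), sub_self]
  obtain ⟨κ, hκ⟩ : ∃ κ, κ = pol Q d s := ⟨_, rfl⟩
  have hQd : Q d = -κ := by
    have h := mem_iso.1 (omv_iso k) s
    rw [show (omv k : Matrix ι ι F) *ᵥ s = s + d by rw [hd, add_sub_cancel], qadd hQ, hs, pcomm, ← hκ] at h
    linear_combination h
  obtain ⟨b, hb⟩ : ∃ b, b = d - κ • r := ⟨_, rfl⟩
  have hrb : pol Q r b = 0 := by rw [hb, psub_right hQ, psmul_right hQ, hdr, hrr]; ring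
  have hub : pol Q u.1 b = 0 := by rw [hb, psub_right hQ, psmul_right hQ, hdu, pcomm u.1 r, hru]; ring
  have hQb : Q b = -κ := by
    rw [hb, qsub hQ, qsmul hQ, psmul_right hQ, pcomm d r, hdr, hr, hQd]; ring
  have hbs : pol Q s b = 0 := by
    rw [hb, psub_right hQ, psmul_right hQ, pcomm s d, ← hκ, pcomm s r, hrs]; ring
  have hn5 : 5 ≤ Fintype.card ι := by have := H.seven; omega
  obtain ⟨h, hh⟩ := exists_omega_E hQ hn5 hr hrb
  have hhs : (omv h : Matrix ι ι F) *ᵥ s = (omv k : Matrix ι ι F) *ᵥ s := by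
    rw [hh, pcomm s r, hrs, hbs, hQb, hb, show (omv k : Matrix ι ι F) *ᵥ s = s + d by rw [hd, add_sub_cancel]]
    module
  have hfix : ∀ z, pol Q z r = 0 → pol Q z b = 0 → (omv h : Matrix ι ι F) *ᵥ z = z := fun z h1 h3 => by
    rw [hh, h1, h3]
    simp
  have hinv : ∀ z, (omv h : Matrix ι ι F) *ᵥ z = (omv k : Matrix ι ι F) *ᵥ z →
      (omv (h⁻¹ * k) : Matrix ι ι F) *ᵥ z = z := fun z hz => by
    show (((omv h)⁻¹ * omv k : GL ι F) : Matrix ι ι F) *ᵥ z = z
    rw [gl_mul_mulVec, ← hz, ← gl_mul_mulVec, inv_mul_cancel, Units.val_one, one_mulVec]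
  have hg : h⁻¹ * k ∈ StabStep.good (Cfsg.Omega F Q) u v :=
    good_plane H hv hε hr hs hru hsu hrs
      (hinv _ (by rw [hfix _ (by rw [pcomm, hru]) hub, hku]))
      (hinv _ (by rw [hfix _ hrr hrb, hkr]))
      (hinv _ hhs)
  rw [show k = h * (h⁻¹ * k) by rw [mul_inv_cancel_left]]
  refine mul_mem ?_ (Subgroup.subset_closure hg)
  by_cases hspl : (2 : F) = 0 ∧ u.1 ∈ Submodule.span F ({r, b} : Set (ι → F))
  · -- split the Eichler element
    obtain ⟨h2, hmem⟩ := hspl
    obtain ⟨b₁, hb₁, hb₁n⟩ : ∃ b₁ ∈ qperp hQ (Submodule.span F ({r, s, u.1} : Set (ι → F))),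
        b₁ ∉ Submodule.span F ({r, u.1} : Set (ι → F)) := by
      by_contra hcon
      push Not at hcon
      have h1 := Submodule.finrank_mono (show qperp hQ (Submodule.span F ({r, s, u.1} : Set (ι → F))) ≤
        Submodule.span F ({r, u.1} : Set (ι → F)) from hcon)
      have h3 := finrank_qperp hQ (Submodule.span F ({r, s, u.1} : Set (ι → F)))
      have h4 := finrank_triple (F := F) r s u.1
      have h5 := finrank_pair (F := F) r u.1
      have := H.seven
      omega
    rw [mem_qperp_span] at hb₁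
    have hrb₁ : pol Q r b₁ = 0 := by rw [pcomm]; exact hb₁ r (by simp)
    have hub₁ : pol Q u.1 b₁ = 0 := by rw [pcomm]; exact hb₁ u.1 (by simp)
    have hrb₂ : pol Q r (b - b₁) = 0 := by rw [psub_right hQ, hrb, hrb₁, sub_zero]
    have hub₂ : pol Q u.1 (b - b₁) = 0 := by rw [psub_right hQ, hub, hub₁, sub_zero]
    obtain ⟨α, β, hαβ⟩ := Submodule.mem_span_pair.1 hmem
    have hur : ∀ t : F, u.1 ≠ t • r := fun t ht => by
      have := u.2
      rw [ht, qsmul hQ, hr, mul_zero] at this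
      exact H.cne this.symm
    have hβ : β ≠ 0 := fun h0 => hur α (by rw [← hαβ, h0, zero_smul, add_zero])
    have hbmem : b ∈ Submodule.span F ({r, u.1} : Set (ι → F)) := by
      rw [Submodule.mem_span_pair]
      refine ⟨-(β⁻¹ * α), β⁻¹, ?_⟩
      rw [← hαβ, smul_add, smul_smul, smul_smul, inv_mul_cancel₀ hβ, one_smul]
      module
    have hn1 : ∀ w, (∀ t₁ t₂ : F, t₂ ≠ 0 → u.1 = t₁ • r + t₂ • w → b₁ ∈ Submodule.span F ({r, u.1} : Set (ι → F))) →
        u.1 ∉ Submodule.span F ({r, w} : Set (ι → F)) := fun w hw hm => by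
      obtain ⟨t₁, t₂, ht⟩ := Submodule.mem_span_pair.1 hm
      refine hb₁n (hw t₁ t₂ (fun h0 => hur t₁ ?_) ht.symm)
      rw [← ht, h0, zero_smul, add_zero]
    have hwmem : ∀ (w : ι → F) (t₁ t₂ : F), t₂ ≠ 0 → u.1 = t₁ • r + t₂ • w →
        w ∈ Submodule.span F ({r, u.1} : Set (ι → F)) := fun w t₁ t₂ h0 hw => by
      rw [Submodule.mem_span_pair]
      refine ⟨-(t₂⁻¹ * t₁), t₂⁻¹, ?_⟩
      rw [hw, smul_add, smul_smul, smul_smul, inv_mul_cancel₀ h0, one_smul]
      module
    obtain ⟨h₁, hh₁⟩ := exists_omega_E hQ hn5 hr hrb₁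
    obtain ⟨h₂, hh₂⟩ := exists_omega_E hQ hn5 hr hrb₂
    have e : h = h₁ * h₂ := by
      refine omv_injective ?_
      have := IsE.mul hQ hr hrb₁ hrb₂ hh₁ hh₂
      rw [add_sub_cancel] at this
      exact hh.unique this
    rw [e]
    refine mul_mem (Subgroup.subset_closure (good_eichler H hv hε hr hru hrb₁ hub₁
      (fun _ => hn1 _ fun t₁ t₂ h0 hw => hwmem _ t₁ t₂ h0 hw) hh₁))
      (Subgroup.subset_closure (good_eichler H hv hε hr hru hrb₂ hub₂
      (fun _ => hn1 _ fun t₁ t₂ h0 hw => ?_) hh₂))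
    have := Submodule.sub_mem _ hbmem (hwmem _ t₁ t₂ h0 hw)
    rwa [sub_sub_cancel] at this
  · exact Subgroup.subset_closure (good_eichler H hv hε hr hru hrb hub (fun h2 hm => hspl ⟨h2, hm⟩) hh)

end CfsgLib.Lie.Mult.Orth
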