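import Cfsg.Agent.Lib.Lie.Mult.Orth.Cover
import Cfsg.Agent.Lib.Classical.ExcIsoSix
import Cfsg.Agent.Lib.Lie.SLUniv.Main
import Cfsg.Agent.Lib.Lie.Chev.Univ.Three
import Cfsg.Agent.Lib.Lie.Chev.Univ.Multiplier
import Cfsg.Agent.Lib.Lie.Chev.TorData
import Cfsg.Agent.Lib.Lie.Chev.Nat.Iso
import Cfsg.Agent.S0790

/-!
# The smallest cases: plus type in dimension six, and in dimension eight over three elements
-/

set_option autoImplicit false
set_option linter.all false

namespace CfsgLib.Lie.Mult.Orth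

open scoped Matrix commutatorElement
open Matrix Cfsg.Geo CfsgLib.Orth CfsgLib.Perm.Asch CfsgLib.Perm.Trans CfsgLib.Perm.Trans.Quad

universe u

/-- from a bound for a central quotient to a bound for the group -/
theorem SBound.lift {Ω G : Type u} [Group Ω] [Group G] (hΩ : commutator Ω = ⊤) (q : Ω →* G)
    (hq : Function.Surjective q) (hqc : q.ker ≤ Subgroup.center Ω) {B b : ℕ} (h : SBound G B)
    (hB : B ≤ b * Nat.card q.ker) [Finite Ω] : SBound Ω b := fun Γ _ _ τ hτ => by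
  have hΓ : commutator Γ = ⊤ := by
    refine CfsgLib.Schur.eq_top_of_map_eq_top hτ ?_
    rw [commutator_def, Subgroup.map_commutator, Subgroup.map_top_of_surjective _ hτ.1, ← commutator_def, hΩ]
  obtain ⟨hst, hcard⟩ := stem_comp τ hτ.1 hτ.2.1 hΓ q hq hqc
  have h1 := (h _ _ hst).trans hB
  rw [hcard] at h1
  exact Nat.le_of_mul_le_mul_right h1 Nat.card_pos

variable {F : Type u} [Field F] [Fintype F]

/-- plus type in dimension six -/
theorem bound_plus_three (h2 : (2 : F) ≠ 0) : SBound ↥(Cfsg.Omega F (Cfsg.quadFormPlus 3 F)) 2 := by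
  classical
  have hQ := quadFormPlus_nd (F := F) (m := 3)
  have hn : 5 ≤ Fintype.card (Fin 3 ⊕ Fin 3) := by simp
  obtain ⟨e⟩ := CfsgLib.Classical.ExcIsoSix.omega_six_plus (F := F)
  have hodd : Odd (Fintype.card F) :=
    Nat.odd_iff.2 (FiniteField.odd_card_of_char_ne_two (F := F) fun e => h2 (by
      haveI := ringChar.of_eq e; exact CharTwo.two_eq_zero))
  have hm := CfsgLib.Lie.SLUniv.psl_multiplier (F := F) (n := 4) (by omega) (fun h => absurd h (by omega))
    (by
      simp only [Set.mem_insert_iff, Set.mem_singleton_iff, Prod.mk.injEq, not_or]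
      rw [Nat.odd_iff] at hodd
      omega)
  have hg : 0 < Nat.gcd 4 (Fintype.card F - 1) := Nat.gcd_pos_of_pos_left _ (by omega)
  haveI : NeZero (Nat.gcd 4 (Fintype.card F - 1)) := ⟨hg.ne'⟩
  have hB : SBound (Cfsg.POmega F (Cfsg.quadFormPlus 3 F)) (Nat.gcd 4 (Fintype.card F - 1)) :=
    SBound.congr e.symm (SBound.of_multiplier hm (by
      rw [Nat.card_congr Multiplicative.toAdd, Nat.card_zmod]))
  refine SBound.lift (omega_perfect hQ hn) (QuotientGroup.mk' _) (QuotientGroup.mk'_surjective _)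
    (by rw [QuotientGroup.ker_mk']) hB ?_
  rw [QuotientGroup.ker_mk']
  rw [Nat.odd_iff] at hodd
  by_cases h1 : Fintype.card F % 4 = 1
  · have hq : Fintype.card F ^ 3 % 4 = 1 := by rw [Nat.pow_mod, h1]
    rw [card_center_omega_of_mem hQ hn h2 ((Cfsg.Agent.S0790.result rfl (Nat.odd_iff.2 hodd) 3 (by omega)).2 hq)]
    exact Nat.le_of_dvd (by omega) (Nat.gcd_dvd_left _ _)
  · rw [(gcd_four_facts (x := Fintype.card F - 1)).2.1 (by omega)]
    exact Nat.le_mul_of_pos_right 2 Nat.card_pos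

/-- plus type in dimension eight over three elements -/
theorem bound_plus_four_three (hK : Fintype.card F = 3) :
    SBound ↥(Cfsg.Omega F (Cfsg.quadFormPlus 4 F)) 2 := by
  classical
  have hodd : Odd (Fintype.card F) := by rw [hK]; decide
  have h2 : (2 : F) ≠ 0 := CfsgLib.Orth.two_ne_zero_of_odd hodd
  have hQ := quadFormPlus_nd (F := F) (m := 4)
  have hn : 5 ≤ Fintype.card (Fin 4 ⊕ Fin 4) := by simp
  have hD : Cfsg.Lie.chevD4 ∈ [Cfsg.Lie.chevG2, Cfsg.Lie.chevB2, Cfsg.Lie.chevD4, Cfsg.Lie.chevF4,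
      Cfsg.Lie.chevE6, Cfsg.Lie.chevE7, Cfsg.Lie.chevE8] := by simp
  let C : CfsgLib.Lie.Chev.Full Cfsg.Lie.chevD4 := CfsgLib.Lie.Chev.fullOf hD
  have hker : Nat.card (C.G.torθ (K := F)).ker = 4 := by
    have h1 := C.G.card_diagonal (K := F) CfsgLib.Lie.Chev.kerD4 CfsgLib.Lie.Chev.kerD4_ok
    have h3 := Subgroup.card_eq_card_quotient_mul_card_subgroup (C.G.torθ (K := F)).ker
    rw [Nat.card_congr (QuotientGroup.quotientKerEquivRange (C.G.torθ (K := F))).toEquiv,
      ← C.G.diagonal_eq_range, Nat.card_fun, Nat.card_units, Nat.card_fin, Nat.card_eq_fintype_card (α := F),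
      ← h1, hK] at h3
    rw [mul_comm (Nat.card ↥(Cfsg.Lie.chevD4.diagonalSubgroup F))] at h3
    haveI : Finite ↥(Cfsg.Lie.chevD4.diagonalSubgroup F) := by rw [C.G.diagonal_eq_range]; infer_instance
    have := Nat.eq_of_mul_eq_mul_right Nat.card_pos h3
    rw [← this]
    rfl
  have hB : SBound ↥(Cfsg.Lie.chevD4.group F) 4 := fun Γ _ _ τ hτ => by
    obtain ⟨π, hπ⟩ := CfsgLib.Lie.Chev.Univ.stem_ker_image C (CfsgLib.Lie.Chev.hasPair_tab hD C) hτ
      (CfsgLib.Lie.Chev.Univ.torusData_D4_three C hK (CfsgLib.Lie.Chev.Univ.stemExt hτ)).exists_hom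
    haveI : Finite (CfsgLib.Lie.Chev.Univ.thetaG C (K := F)).ker := by
      rw [CfsgLib.Lie.Chev.Univ.thetaG_ker]
      exact CfsgLib.Lie.Chev.Univ.kerSt_finite C (CfsgLib.Lie.Chev.hasPair_tab hD C)
    refine (Nat.card_le_card_of_surjective π hπ).trans (le_of_le_of_eq ?_ hker)
    rw [CfsgLib.Lie.Chev.Univ.thetaG_ker, C.kerSt_eq (CfsgLib.Lie.Chev.hasPair_tab hD C)]
    exact Nat.card_le_card_of_surjective _ (MonoidHom.subgroupMap_surjective _ _)
  obtain ⟨e⟩ := CfsgLib.Lie.NatRep.d4_iso F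
  refine SBound.lift (omega_perfect hQ hn) (QuotientGroup.mk' _) (QuotientGroup.mk'_surjective _)
    (by rw [QuotientGroup.ker_mk']) (hB.congr e) ?_
  rw [QuotientGroup.ker_mk', card_center_omega_of_mem hQ hn h2
    ((Cfsg.Agent.S0790.result rfl hodd 4 (by omega)).2 (by rw [hK]; rfl))]

end CfsgLib.Lie.Mult.Orth
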