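import Mathlib.Algebra.BigOperators.GroupWithZero.Finset
import Mathlib.Algebra.Module.LinearMap.End
import Mathlib.LinearAlgebra.Pi
import Mathlib.Tactic.LinearCombination
import Mathlib.Tactic.Ring

/-!
# The regular representation of a diagonal Clifford algebra

Left and right multiplication by the basis vectors on the functions of subsets of the index set.
-/

set_option autoImplicit false
set_option linter.all false

namespace CfsgLib.Lie.Mult.Orth.Cliff

variable {F : Type*} [Field F] {n : ℕ}

/-- a sign -/
def sb (b : Bool) : F := if b then -1 else 1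

/-- the sign of a subset on a set of indices -/
def sg (s : Finset (Fin n)) (T : Fin n → Bool) : F := ∏ j ∈ s, sb (T j)

/-- adding or removing one index -/
def flp (i : Fin n) (T : Fin n → Bool) : Fin n → Bool := Function.update T i (!T i)

theorem flp_flp (i : Fin n) (T : Fin n → Bool) : flp i (flp i T) = T := by
  funext j
  by_cases h : j = i
  · subst h; simp [flp]
  · simp [flp, h]

theorem flp_self (i : Fin n) (T : Fin n → Bool) : flp i T i = !T i := by simp [flp]

theorem flp_ne {i j : Fin n} (h : j ≠ i) (T : Fin n → Bool) : flp i T j = T j := by simp [flp, h]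

theorem flp_comm {i j : Fin n} (T : Fin n → Bool) : flp i (flp j T) = flp j (flp i T) := by
  by_cases h : i = j
  · rw [h]
  funext k
  by_cases hi : k = i
  · subst hi; rw [flp_self, flp_ne h, flp_ne h, flp_self]
  · by_cases hj : k = j
    · subst hj; rw [flp_ne hi, flp_self, flp_self, flp_ne hi]
    · rw [flp_ne hi, flp_ne hj, flp_ne hj, flp_ne hi]

theorem sb_not (b : Bool) : (sb (!b) : F) = -sb b := by cases b <;> simp [sb]

theorem sb_sq (b : Bool) : (sb b : F) * sb b = 1 := by cases b <;> simp [sb]

theorem sg_flp (s : Finset (Fin n)) (i : Fin n) (T : Fin n → Bool) :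
    (sg s (flp i T) : F) = if i ∈ s then -sg s T else sg s T := by
  by_cases h : i ∈ s
  · rw [if_pos h, sg, sg, ← Finset.mul_prod_erase _ _ h, ← Finset.mul_prod_erase _ _ h, flp_self, sb_not,
      neg_mul]
    congr 2
    exact Finset.prod_congr rfl fun j hj => by rw [flp_ne (Finset.ne_of_mem_erase hj)]
  · rw [if_neg h]
    exact Finset.prod_congr rfl fun j hj => by rw [flp_ne fun e : j = i => h (e ▸ hj)]

theorem sg_sq (s : Finset (Fin n)) (T : Fin n → Bool) : (sg s T : F) * sg s T = 1 := by
  rw [sg, ← Finset.prod_mul_distrib]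
  exact Finset.prod_eq_one fun j _ => sb_sq _

/-- the indices before `i` -/
def bel (i : Fin n) : Finset (Fin n) := Finset.univ.filter (· < i)

/-- the indices after `i` -/
def abv (i : Fin n) : Finset (Fin n) := Finset.univ.filter (i < ·)

theorem mem_bel {i j : Fin n} : j ∈ bel i ↔ j < i := by simp [bel]

theorem mem_abv {i j : Fin n} : j ∈ abv i ↔ i < j := by simp [abv]

theorem sg_univ (i : Fin n) (T : Fin n → Bool) :
    (sg Finset.univ T : F) = sb (T i) * (sg (bel i) T * sg (abv i) T) := by
  simp only [sg]
  rw [← Finset.mul_prod_erase _ _ (Finset.mem_univ i), ← Finset.prod_union]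
  · congr 1
    refine Finset.prod_congr (Finset.ext fun j => ?_) fun _ _ => rfl
    simp [mem_bel, mem_abv, lt_or_lt_iff_ne]
  · rw [Finset.disjoint_left]
    intro j h1 h2
    rw [mem_bel] at h1
    rw [mem_abv] at h2
    exact absurd h1 (not_lt.2 h2.le)

/-- the space -/
abbrev Sp (n : ℕ) (F : Type*) := (Fin n → Bool) → F

variable (d : Fin n → F)

/-- the factor of a multiplication -/
def cd (i : Fin n) (T : Fin n → Bool) : F := if T i then 1 else d i

/-- left multiplication -/
def Lop (i : Fin n) : Module.End F (Sp n F) where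
  toFun f T := sg (bel i) T * cd d i T * f (flp i T)
  map_add' f g := funext fun T => by simp only [Pi.add_apply]; ring
  map_smul' r f := funext fun T => by simp only [Pi.smul_apply, smul_eq_mul, RingHom.id_apply]; ring

/-- right multiplication -/
def Rop (i : Fin n) : Module.End F (Sp n F) where
  toFun f T := sg (abv i) T * cd d i T * f (flp i T)
  map_add' f g := funext fun T => by simp only [Pi.add_apply]; ring
  map_smul' r f := funext fun T => by simp only [Pi.smul_apply, smul_eq_mul, RingHom.id_apply]; ring

/-- the grading -/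
def Pop : Module.End F (Sp n F) where
  toFun f T := sg Finset.univ T * f T
  map_add' f g := funext fun T => by simp only [Pi.add_apply]; ring
  map_smul' r f := funext fun T => by simp only [Pi.smul_apply, smul_eq_mul, RingHom.id_apply]; ring

theorem Lop_apply (i : Fin n) (f : Sp n F) (T) : Lop d i f T = sg (bel i) T * cd d i T * f (flp i T) := rfl

theorem Rop_apply (i : Fin n) (f : Sp n F) (T) : Rop d i f T = sg (abv i) T * cd d i T * f (flp i T) := rfl

theorem Pop_apply (f : Sp n F) (T) : Pop f T = sg Finset.univ T * f T := rfl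

theorem cd_flp_mul (i : Fin n) (T : Fin n → Bool) : cd d i T * cd d i (flp i T) = d i := by
  rw [cd, cd, flp_self]
  cases T i <;> simp

theorem cd_flp {i j : Fin n} (h : i ≠ j) (T : Fin n → Bool) : cd d i (flp j T) = cd d i T := by
  rw [cd, cd, flp_ne h]

theorem Lop_sq (i : Fin n) : Lop d i * Lop d i = d i • 1 := LinearMap.ext fun f => funext fun T => by
  rw [Module.End.mul_apply, Lop_apply, Lop_apply, flp_flp, sg_flp, if_neg (by simp [mem_bel])]
  show _ = d i * f T
  linear_combination (cd d i T * cd d i (flp i T) * f T) * sg_sq (F := F) (bel i) T + f T * cd_flp_mul d i T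

theorem Lop_anti {i j : Fin n} (h : i ≠ j) : Lop d i * Lop d j = -(Lop d j * Lop d i) :=
  LinearMap.ext fun f => funext fun T => by
    rw [LinearMap.neg_apply, Pi.neg_apply, Module.End.mul_apply, Module.End.mul_apply, Lop_apply, Lop_apply,
      Lop_apply, Lop_apply, sg_flp, sg_flp, cd_flp d h.symm, cd_flp d h, flp_comm (i := j) (j := i)]
    simp only [mem_bel]
    rcases lt_or_gt_of_ne h with h' | h'
    · rw [if_pos h', if_neg h'.not_gt]; ring
    · rw [if_neg h'.not_gt, if_pos h']; ring

theorem Lop_Rop (i j : Fin n) : Lop d i * Rop d j = Rop d j * Lop d i :=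
  LinearMap.ext fun f => funext fun T => by
    rw [Module.End.mul_apply, Module.End.mul_apply, Lop_apply, Rop_apply, Rop_apply, Lop_apply, sg_flp, sg_flp,
      flp_comm (i := j) (j := i)]
    simp only [mem_bel, mem_abv]
    by_cases h : i = j
    · subst h
      simp only [lt_irrefl, if_false]
      ring
    · rw [cd_flp d h, cd_flp d fun e : j = i => h e.symm]
      rcases lt_or_gt_of_ne h with h' | h'
      · rw [if_neg h'.not_gt, if_neg h'.not_gt]; ring
      · rw [if_pos h', if_pos h']; ring

theorem Pop_Lop (i : Fin n) : Pop * Lop d i = -(Lop d i * Pop) :=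
  LinearMap.ext fun f => funext fun T => by
    rw [LinearMap.neg_apply, Pi.neg_apply, Module.End.mul_apply, Module.End.mul_apply, Lop_apply, Pop_apply,
      Lop_apply, Pop_apply, sg_flp, if_pos (Finset.mem_univ i)]
    ring

theorem Pop_Rop (i : Fin n) : Pop * Rop d i = -(Rop d i * Pop) :=
  LinearMap.ext fun f => funext fun T => by
    rw [LinearMap.neg_apply, Pi.neg_apply, Module.End.mul_apply, Module.End.mul_apply, Rop_apply, Pop_apply,
      Rop_apply, Pop_apply, sg_flp, if_pos (Finset.mem_univ i)]
    ring

theorem Pop_sq : (Pop : Module.End F (Sp n F)) * Pop = 1 :=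
  LinearMap.ext fun f => funext fun T => by
    rw [Module.End.mul_apply, Pop_apply, Pop_apply, ← mul_assoc, sg_sq, one_mul, Module.End.one_apply]

/-- the empty subset -/
def vac (n : ℕ) (F : Type*) [Field F] : Sp n F := Pi.single (fun _ => false) 1

theorem sg_empty (s : Finset (Fin n)) : (sg s (fun _ => false) : F) = 1 :=
  Finset.prod_eq_one fun j _ => by simp [sb]

theorem flp_eq {i : Fin n} {T U : Fin n → Bool} : flp i T = U ↔ T = flp i U :=
  ⟨fun h => by rw [← h, flp_flp], fun h => by rw [h, flp_flp]⟩

theorem Lop_single (i : Fin n) (U : Fin n → Bool) (a : F) :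
    Lop d i (Pi.single U a) = Pi.single (flp i U) (sg (bel i) (flp i U) * cd d i (flp i U) * a) := by
  funext T
  rw [Lop_apply]
  by_cases h : T = flp i U
  · subst h
    rw [Pi.single_eq_same, flp_flp, Pi.single_eq_same]
  · rw [Pi.single_eq_of_ne h, Pi.single_eq_of_ne fun e => h (flp_eq.1 e), mul_zero]

theorem Rop_vac (i : Fin n) : Rop d i (vac n F) = Lop d i (vac n F) := by
  funext T
  rw [Rop_apply, Lop_apply]
  by_cases h : flp i T = fun _ => false
  · rw [flp_eq] at h
    subst h
    rw [sg_flp, sg_flp, if_neg (by simp [mem_abv]), if_neg (by simp [mem_bel]), sg_empty, sg_empty]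
  · rw [show vac n F (flp i T) = 0 from Pi.single_eq_of_ne h _, mul_zero, mul_zero]

theorem Pop_vac : Pop (vac n F) = vac n F := by
  funext T
  rw [Pop_apply]
  by_cases h : T = fun _ => false
  · subst h; rw [sg_empty, one_mul]
  · rw [show vac n F T = 0 from Pi.single_eq_of_ne h _, mul_zero]

theorem Lop_vac (i : Fin n) : Lop d i (vac n F) = Pi.single (flp i fun _ => false) 1 := by
  rw [vac, Lop_single, sg_flp, if_neg (by simp [mem_bel]), sg_empty, cd, flp_self]
  simp

/-- the even elements commuting with both multiplications are scalars -/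
theorem scalar_of_commute (h2 : (2 : F) ≠ 0) (hd : ∀ i, d i ≠ 0) {x : Module.End F (Sp n F)}
    (hR : ∀ i, x * Rop d i = Rop d i * x) (hL : ∀ i, x * Lop d i = Lop d i * x)
    (hP : x * Pop = Pop * x) : ∃ s : F, x = s • 1 := by
  classical
  obtain ⟨φ, hφ⟩ : ∃ φ, φ = x (vac n F) := ⟨_, rfl⟩
  have hLR : ∀ i, Lop d i φ = Rop d i φ := fun i => by
    have e1 := LinearMap.congr_fun (hL i) (vac n F)
    have e2 := LinearMap.congr_fun (hR i) (vac n F)
    rw [Module.End.mul_apply, Module.End.mul_apply, ← hφ] at e1 e2
    rw [← e1, ← Rop_vac, e2]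
  have hPφ : Pop φ = φ := by
    have e := LinearMap.congr_fun hP (vac n F)
    rw [Module.End.mul_apply, Module.End.mul_apply, Pop_vac, ← hφ] at e
    exact e.symm
  have hsupp : ∀ S, S ≠ (fun _ => false) → φ S = 0 := by
    intro S hS
    by_contra hne
    obtain ⟨i, hi⟩ : ∃ i, S i = true := by
      by_contra hcon
      push Not at hcon
      exact hS (funext fun i => by simpa using hcon i)
    have h1 := congrFun (hLR i) (flp i S)
    rw [Lop_apply, Rop_apply, flp_flp] at h1
    have hcd : cd d i (flp i S) ≠ 0 := by
      rw [cd]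
      split
      · exact one_ne_zero
      · exact hd i
    have h3 : (sg (bel i) (flp i S) : F) = sg (abv i) (flp i S) :=
      mul_right_cancel₀ hcd (mul_right_cancel₀ hne h1)
    have h4 : (sg Finset.univ (flp i S) : F) = 1 := by
      rw [sg_univ i, flp_self, hi, h3, sg_sq]
      simp [sb]
    rw [sg_flp, if_pos (Finset.mem_univ i)] at h4
    have h5 := congrFun hPφ S
    rw [Pop_apply] at h5
    exact hne ((mul_eq_zero.1 (show (2 : F) * φ S = 0 by linear_combination -h5 - φ S * h4)).resolve_left h2)
  refine ⟨φ fun _ => false, ?_⟩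
  have hvac : x (vac n F) = (φ fun _ => false) • vac n F := by
    rw [← hφ]
    funext T
    rw [Pi.smul_apply, smul_eq_mul]
    by_cases h : T = fun _ => false
    · subst h; rw [vac, Pi.single_eq_same, mul_one]
    · rw [hsupp T h, vac, Pi.single_eq_of_ne h, mul_zero]
  have hall : ∀ (k : ℕ) (S : Fin n → Bool), (Finset.univ.filter fun i => S i = true).card = k →
      x (Pi.single S 1) = (φ fun _ => false) • Pi.single S 1 := by
    intro k
    induction k with
    | zero =>
      intro S hS
      rw [Finset.card_eq_zero, Finset.filter_eq_empty_iff] at hS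
      have e : S = fun _ => false := funext fun i => by simpa using hS (Finset.mem_univ i)
      rw [e]
      exact hvac
    | succ k ih =>
      intro S hS
      obtain ⟨i, hi⟩ := Finset.card_pos.1 (hS ▸ Nat.succ_pos k :
        0 < (Finset.univ.filter fun i => S i = true).card)
      rw [Finset.mem_filter] at hi
      have hU := ih (flp i S) (by
        have : (Finset.univ.filter fun j => flp i S j = true) =
            (Finset.univ.filter fun j => S j = true).erase i := by
          ext j
          by_cases hj : j = i
          · subst hj; simp [flp_self, hi.2]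
          · simp [flp_ne hj, hj]
        rw [this, Finset.card_erase_of_mem (by simp [hi.2]), hS]
        rfl)
      obtain ⟨r, hr, he⟩ : ∃ r : F, r ≠ 0 ∧ Lop d i (Pi.single (flp i S) 1) = r • Pi.single S 1 := by
        refine ⟨sg (bel i) S * cd d i S, mul_ne_zero (fun h => ?_) ?_, ?_⟩
        · have := sg_sq (F := F) (bel i) S
          rw [h, zero_mul] at this
          exact zero_ne_one this
        · rw [cd, hi.2]; simp
        · rw [Lop_single, flp_flp, ← Pi.single_smul, smul_eq_mul]
      have h := LinearMap.congr_fun (hL i) (Pi.single (flp i S) 1)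
      rw [Module.End.mul_apply, Module.End.mul_apply, hU, map_smul, he, map_smul, smul_comm _ r] at h
      exact smul_right_injective _ hr h
  refine LinearMap.pi_ext fun S a => ?_
  rw [show (Pi.single S a : Sp n F) = a • Pi.single S 1 by rw [← Pi.single_smul, smul_eq_mul, mul_one], map_smul,
    hall _ S rfl]
  show a • (φ fun _ => false) • Pi.single S 1 = (φ fun _ => false) • (a • Pi.single S 1)
  rw [smul_comm]

end CfsgLib.Lie.Mult.Orth.Cliff
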