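import Cfsg.Agent.Lib.Lie.Mult.Orth.SpinCover
import Cfsg.Agent.Lib.Orth.SmallQuot
import Cfsg.Agent.Lib.Lie.SLUniv.Basic

/-!
# The multiplier of `POmega` from the bound for `Omega` and the double cover
-/

set_option autoImplicit false
set_option linter.all false

namespace CfsgLib.Lie.Mult.Orth

open scoped Matrix commutatorElement
open Matrix Cfsg.Geo CfsgLib.Orth CfsgLib.Perm.Asch CfsgLib.Perm.Trans CfsgLib.Perm.Trans.Quad

universe u

/-- in a perfect central extension an element over a central one is central -/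
theorem mem_center_of_over {D S : Type*} [Group D] [Group S] (ρ : D →* S) (hc : ρ.ker ≤ Subgroup.center D)
    (hD : commutator D = ⊤) {x : D} (hx : ρ x ∈ Subgroup.center S) : x ∈ Subgroup.center D := by
  have hk : ∀ y : D, ⁅x, y⁆ ∈ ρ.ker := fun y => by
    rw [MonoidHom.mem_ker, map_commutatorElement, commutatorElement_eq_one_iff_mul_comm]
    exact (Subgroup.mem_center_iff.1 hx _).symm
  have hmul : ∀ y z : D, ⁅x, y * z⁆ = ⁅x, y⁆ * ⁅x, z⁆ := fun y z => by
    have h : y * ⁅x, z⁆ * y⁻¹ = ⁅x, z⁆ := by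
      rw [Subgroup.mem_center_iff.1 (hc (hk z)) y, mul_inv_cancel_right]
    calc ⁅x, y * z⁆ = ⁅x, y⁆ * (y * ⁅x, z⁆ * y⁻¹) := by
          simp only [commutatorElement_def]; group
      _ = _ := by rw [h]
  let φ : D →* Subgroup.center D := MonoidHom.mk' (fun y => ⟨⁅x, y⁆, hc (hk y)⟩) fun y z => Subtype.ext (hmul y z)
  refine Subgroup.mem_center_iff.2 fun y => ?_
  have hy : y ∈ φ.ker := by
    have h1 : commutator D ≤ φ.ker := by
      rw [commutator_def, Subgroup.commutator_le]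
      intro a _ b _
      rw [MonoidHom.mem_ker, map_commutatorElement, commutatorElement_eq_one_iff_mul_comm]
      exact Subtype.ext (Subgroup.mem_center_iff.1 (φ b).2 _)
    rw [hD] at h1
    exact h1 (Subgroup.mem_top y)
  exact ((commutatorElement_eq_one_iff_mul_comm).1 (congrArg Subtype.val hy)).symm

/-- composite of perfect central extensions -/
theorem stem_comp {D S G : Type*} [Group D] [Group S] [Group G] (ρ : D →* S) (hρ : Function.Surjective ρ)
    (hc : ρ.ker ≤ Subgroup.center D) (hD : commutator D = ⊤) (π : S →* G) (hπ : Function.Surjective π)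
    (hπc : π.ker ≤ Subgroup.center S) :
    Cfsg.IsStemExtension (π.comp ρ) ∧ Nat.card (π.comp ρ).ker = Nat.card ρ.ker * Nat.card π.ker := by
  refine ⟨⟨hπ.comp hρ, fun x hx => mem_center_of_over ρ hc hD (hπc hx), by rw [hD]; exact le_top⟩, ?_⟩
  obtain ⟨f, hf⟩ : ∃ f : ↥(π.comp ρ).ker →* ↥π.ker,
      f = (ρ.comp (π.comp ρ).ker.subtype).codRestrict _ (fun x => x.2) := ⟨_, rfl⟩
  have hfs : Function.Surjective f := fun y => by
    obtain ⟨x, hx⟩ := hρ y.1
    exact ⟨⟨x, by rw [MonoidHom.mem_ker, MonoidHom.comp_apply, hx]; exact y.2⟩, by rw [hf]; exact Subtype.ext hx⟩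
  have hfk : Nat.card f.ker = Nat.card ρ.ker := by
    refine Nat.card_congr ⟨fun x => ⟨x.1.1, ?_⟩, fun x => ⟨⟨x.1, ?_⟩, ?_⟩, fun x => rfl, fun x => rfl⟩
    · have h : f x.1 = 1 := x.2
      subst hf
      exact congrArg Subtype.val h
    · rw [MonoidHom.mem_ker, MonoidHom.comp_apply, show ρ x.1 = 1 from x.2, map_one]
    · subst hf
      exact Subtype.ext x.2
  rw [← Subgroup.card_mul_index f.ker, hfk, Subgroup.index_ker, MonoidHom.range_eq_top.2 hfs, Subgroup.card_top]

/-- a perfect stem extension with the largest kernel splits every central extension -/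
theorem exists_section_of_bound {S Ω : Type u} [Group S] [Finite S] [Group Ω] (σ : S →* Ω)
    (hσ : Cfsg.IsStemExtension σ) (hS : commutator S = ⊤) {b : ℕ} (hb : SBound Ω b) (hker : Nat.card σ.ker = b)
    (P : Type u) [Group P] [Finite P] (p : P →* S) (hp : Function.Surjective p) (hc : p.ker ≤ Subgroup.center P) :
    ∃ s : S →* P, p.comp s = MonoidHom.id S := by
  obtain ⟨hst, hper⟩ := core_stem p hp hc hS
  obtain ⟨ρ, hρ⟩ : ∃ ρ, ρ = p.comp (commutator P).subtype := ⟨_, rfl⟩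
  rw [← hρ] at hst
  obtain ⟨hst2, hcard⟩ := stem_comp ρ hst.1 hst.2.1 hper σ hσ.1 hσ.2.1
  have h1 := hb _ _ hst2
  rw [hcard, hker] at h1
  have h2 : Nat.card ρ.ker = 1 := by
    refine le_antisymm ?_ Nat.card_pos
    have h0 : 0 < b := hker ▸ Nat.card_pos
    exact Nat.le_of_mul_le_mul_right (by rwa [one_mul]) h0
  have hinj : Function.Injective ρ := (MonoidHom.ker_eq_bot_iff _).1 (Subgroup.card_eq_one.1 h2)
  obtain ⟨e, he⟩ : ∃ e : ↥(commutator P) ≃* S, ∀ x, e x = p x.1 :=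
    ⟨MulEquiv.ofBijective ρ ⟨hinj, hst.1⟩, fun x => DFunLike.congr_fun hρ x⟩
  refine ⟨(commutator P).subtype.comp e.symm.toMonoidHom, MonoidHom.ext fun x => ?_⟩
  show p (e.symm x).1 = x
  rw [← he, e.apply_symm_apply]

variable {F : Type u} [Field F] [Fintype F] {ι : Type} [Fintype ι] [DecidableEq ι]
variable {Q : (ι → F) → F}

/-- a minus one gives the centre -/
theorem neg_central {g : Cfsg.Omega F Q} (hg : ∀ w, (omv g : Matrix ι ι F) *ᵥ w = -w) :
    g ∈ Subgroup.center (Cfsg.Omega F Q) := Subgroup.mem_center_iff.2 fun x =>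
  omv_injective (Units.ext (Matrix.ext_iff_mulVec.2 fun w => by
    show ((omv x * omv g : GL ι F) : Matrix ι ι F) *ᵥ w = ((omv g * omv x : GL ι F) : Matrix ι ι F) *ᵥ w
    rw [gl_mul_mulVec, gl_mul_mulVec, hg, hg, Matrix.mulVec_neg]))

/-- the multiplier of `POmega` in odd characteristic -/
theorem pomega_multiplier (hQ : IsNondegenerateQuadraticForm Q) (h2 : (2 : F) ≠ 0) (h7 : 7 ≤ Fintype.card ι)
    (hb : SBound ↥(Cfsg.Omega F Q) 2) :
    ((¬ ∃ g : ↥(Cfsg.isometryGroup F Q), g ∈ Cfsg.Omega F Q ∧ ((g : GL ι F) : Matrix ι ι F) = -1) →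
      Cfsg.HasCyclicSchurMultiplier (Cfsg.POmega F Q) 2) ∧
    (∀ l, Fintype.card ι = 2 * l →
      (∃ g : ↥(Cfsg.isometryGroup F Q), g ∈ Cfsg.Omega F Q ∧ ((g : GL ι F) : Matrix ι ι F) = -1) →
      (Odd l → Cfsg.HasCyclicSchurMultiplier (Cfsg.POmega F Q) 4) ∧
      (Even l → Cfsg.HasSchurMultiplier (Cfsg.POmega F Q) (Multiplicative (ZMod 2 × ZMod 2)))) := by
  obtain ⟨S, _, _, σ, hσ, hper, hker, hu⟩ := exists_spin hQ h2 h7 hb
  obtain ⟨q, hq⟩ : ∃ q, q = QuotientGroup.mk' (Subgroup.center (Cfsg.Omega F Q)) := ⟨_, rfl⟩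
  have hqk : q.ker = Subgroup.center (Cfsg.Omega F Q) := by rw [hq, QuotientGroup.ker_mk']
  obtain ⟨hst, hcard⟩ := stem_comp σ hσ.1 hσ.2.1 hper q (hq ▸ QuotientGroup.mk'_surjective _) hqk.le
  rw [hker, hqk] at hcard
  have mult : ∀ {A : Type} [CommGroup A], Nonempty (↥(q.comp σ).ker ≃* A) →
      Cfsg.HasSchurMultiplier (Cfsg.POmega F Q) A := fun ⟨e⟩ =>
    CfsgLib.Lie.SLUniv.hasSchurMultiplier_of_split hst
      (fun P _ _ p hp hc => exists_section_of_bound σ hσ hper hb hker P p hp hc) e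
  refine ⟨fun hno => mult (zmod2_of (by rw [hcard, card_center_omega_of_not hQ (by omega) hno])), ?_⟩
  rintro l hl hex
  rw [card_center_omega_of_mem hQ (by omega) h2 hex] at hcard
  obtain ⟨g0, hg0, hgm⟩ := hex
  have hg : ∀ w, (omv (⟨g0, hg0⟩ : Cfsg.Omega F Q) : Matrix ι ι F) *ᵥ w = -w := fun w => by
    show (g0.1 : Matrix ι ι F) *ᵥ w = -w
    rw [hgm, Matrix.neg_mulVec, Matrix.one_mulVec]
  obtain ⟨u, z, hu1, hz1, hz, hzz, huu⟩ := hu l hl _ hg
  have hum : u ∈ (q.comp σ).ker := by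
    rw [MonoidHom.mem_ker, MonoidHom.comp_apply, hu1, ← MonoidHom.mem_ker, hqk]
    exact neg_central hg
  have hzm : z ∈ (q.comp σ).ker := by rw [MonoidHom.mem_ker, MonoidHom.comp_apply, hz1, map_one]
  refine ⟨fun hodd => mult (zmod4_of_sq hcard (g := ⟨u, hum⟩) fun h => hz ?_), fun hev =>
    mult (klein_of_pair hcard (g := ⟨z, hzm⟩) (u := ⟨u, hum⟩) (Subtype.ext hzz) (Subtype.ext ?_) (fun h => hz
      (congrArg Subtype.val h)) (fun h => ?_) (fun h => ?_))⟩
  · have h' := congrArg Subtype.val h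
    obtain ⟨k, rfl⟩ := hodd
    change u * u = 1 at h'
    rwa [huu, pow_succ, pow_mul, sq, hzz, one_pow, one_mul] at h'
  · obtain ⟨k, rfl⟩ := hev
    show u * u = 1
    rw [huu, ← two_mul, pow_mul, sq, hzz, one_pow]
  · have h' : (⟨g0, hg0⟩ : Cfsg.Omega F Q) = 1 := by
      rw [← hu1, show u = 1 from congrArg Subtype.val h, map_one]
    obtain ⟨i⟩ : Nonempty ι := Fintype.card_pos_iff.1 (by omega)
    have e := congrFun ((hg (Pi.single i 1)).symm.trans (by rw [h']; exact Matrix.one_mulVec _ : _ = Pi.single i (1 : F))) i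
    simp only [Pi.neg_apply, Pi.single_eq_same] at e
    exact h2 (by linear_combination -e)
  · have h' : (⟨g0, hg0⟩ : Cfsg.Omega F Q) = 1 := by
      rw [← hu1, ← show z = u from congrArg Subtype.val h, hz1]
    obtain ⟨i⟩ : Nonempty ι := Fintype.card_pos_iff.1 (by omega)
    have e := congrFun ((hg (Pi.single i 1)).symm.trans (by rw [h']; exact Matrix.one_mulVec _ : _ = Pi.single i (1 : F))) i
    simp only [Pi.neg_apply, Pi.single_eq_same] at e
    exact h2 (by linear_combination -e)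

end CfsgLib.Lie.Mult.Orth
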