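import Cfsg.Agent.Lib.Lie.Mult.Orth.Restrict
import Cfsg.Agent.Lib.Lie.SpUniv.Main
import Cfsg.Agent.Lib.Perm.Elusive.SympPairs

/-!
# The stabiliser of a nonsingular vector in characteristic two

It is the symplectic group of the perpendicular modulo the vector; in particular it is perfect and has no
proper stem extension.
-/

set_option autoImplicit false
set_option linter.all false

namespace CfsgLib.Lie.Mult.Orth

open scoped Matrix commutatorElement
open Matrix Cfsg.Geo CfsgLib.Orth CfsgLib.Sp CfsgLib.Perm.Asch CfsgLib.Perm.Trans CfsgLib.Perm.Trans.Quad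

attribute [-simp] Matrix.mulVec_single_one Matrix.mulVec_single

variable {ι : Type} [Fintype ι] [DecidableEq ι] {F : Type*} [Field F] [Fintype F]
variable {Q : (ι → F) → F}

local notation "pol" => QuadraticMap.polar

variable (hQ : IsNondegenerateQuadraticForm Q) (h2 : (2 : F) = 0)
include hQ h2

/-- symplectic coordinates on a nondegenerate subspace -/
theorem exists_symp_coords {C : Submodule F (ι → F)} (hC : NdOn Q C) {m : ℕ}
    (hd : Module.finrank F C = 2 * m) : ∃ e : (Fin m ⊕ Fin m → F) →ₗ[F] (ι → F), Function.Injective e ∧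
      LinearMap.range e = C ∧ ∀ x y, pol Q (e x) (e y) = sf x y := by
  obtain ⟨e₀, he₀, hr₀⟩ := exists_coords C
  have hnd := pull_nd hQ e₀ he₀ (by rw [hr₀]; exact hC)
  have hf : IsSymplecticForm (QuadraticMap.polar (pullQ Q e₀)) :=
    ⟨hnd.polar_bilinear, fun v w => by rw [pcomm]; linear_combination (pol (pullQ Q e₀) w v) * h2,
      fun v => by rw [pself hnd, h2, zero_mul], hnd.nondegenerate⟩
  obtain ⟨w, w1, w2, w3, w4⟩ := CfsgLib.Perm.Elusive.exists_hyperbolic_basis hf (d := m)
    ((finCongr (by omega : Module.finrank F C = m + m)).trans finSumFinEquiv.symm)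
  refine ⟨e₀.comp w.equivFun.symm.toLinearMap, he₀.comp w.equivFun.symm.injective, ?_, fun x y => ?_⟩
  · rw [LinearMap.range_comp, LinearEquiv.range, Submodule.map_top, hr₀]
  · show pol Q (e₀ (w.equivFun.symm x)) (e₀ (w.equivFun.symm y)) = _
    rw [← pull_polar, Module.Basis.equivFun_symm_apply, Module.Basis.equivFun_symm_apply, pol_sum_left hnd]
    simp only [pol_sum_right hnd]
    rw [CfsgLib.Sp.sf_eq]
    simp [Fintype.sum_sum_type, w1, w2, w3, w4, mul_comm]
    ring

/-- the stabiliser of a vector of value one is a symplectic group -/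
theorem exists_stab_equiv {m : ℕ} (hm : Fintype.card ι = 2 * m + 2) (h6 : 2 ≤ m) {a : ι → F} (hQa : Q a = 1) :
    Nonempty (↥(fixer Q {a}) ≃* ↥(Matrix.symplecticGroup (Fin m) F)) := by
  classical
  have hex : Fintype.card F ≠ 2 ∨ Fintype.card ι ≠ 4 := Or.inr (by omega)
  have hn : 2 ≤ Fintype.card ι := by omega
  have ha0 : a ∉ (⊥ : Submodule F (ι → F)) := fun h => by
    rw [Submodule.mem_bot] at h
    rw [h, qzero hQ] at hQa
    exact zero_ne_one hQa
  obtain ⟨p, -, hap⟩ := exists_qperp_ne hQ ha0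
  obtain ⟨P, hP⟩ : ∃ P, P = Submodule.span F ({a, p} : Set (ι → F)) := ⟨_, rfl⟩
  have haP : a ∈ P := hP ▸ Submodule.subset_span (by simp)
  have hpP : p ∈ P := hP ▸ Submodule.subset_span (by simp)
  have hself : ∀ x, pol Q x x = 0 := fun x => by rw [pself hQ, h2, zero_mul]
  have hpa : pol Q p a = 1 := by rw [pcomm, hap]
  have hPel : ∀ x ∈ P, ∃ s t : F, x = s • a + t • p ∧ pol Q x a = t ∧ pol Q x p = s := by
    intro x hx
    rw [hP, Submodule.mem_span_pair] at hx
    obtain ⟨s, t, rfl⟩ := hx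
    refine ⟨s, t, rfl, ?_, ?_⟩
    · rw [padd_left hQ, psmul_left hQ, psmul_left hQ, hself, hpa]; ring
    · rw [padd_left hQ, psmul_left hQ, psmul_left hQ, hself, hap]; ring
  have hPnd : NdOn Q P := by
    intro v hv hv0
    obtain ⟨s, t, rfl, ht, hs⟩ := hPel v hv
    by_cases ht0 : t = 0
    · have hs0 : s ≠ 0 := fun h => hv0 (by rw [h, ht0, zero_smul, zero_smul, add_zero])
      exact ⟨⟨p, hpP, by rw [pcomm, hs]; exact hs0⟩, p, hpP, by rw [hs]; exact hs0⟩
    · exact ⟨⟨a, haP, by rw [pcomm, ht]; exact ht0⟩, a, haP, by rw [ht]; exact ht0⟩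
  obtain ⟨C, hC⟩ : ∃ C, C = qperp hQ P := ⟨_, rfl⟩
  have hCd : Module.finrank F C = 2 * m := by
    have h1 := finrank_qperp hQ P
    have h3 := CfsgLib.Orth.finrank_qperp_le hQ P
    have h4 : Module.finrank F P = 2 := by
      have hle : Module.finrank F P ≤ 2 := by
        rw [hP, ← show (↑({a, p} : Finset (ι → F)) : Set (ι → F)) = {a, p} by simp]
        exact (finrank_span_finset_le_card _).trans Finset.card_le_two
      have : Module.finrank F (Submodule.span F {a}) < Module.finrank F P :=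
        Submodule.finrank_lt_finrank_of_lt (lt_of_le_of_ne ((Submodule.span_singleton_le_iff_mem _ _).2 haP) fun e => by
          obtain ⟨r, hr⟩ := Submodule.mem_span_singleton.1 (e ▸ hpP)
          rw [← hr, psmul_left hQ, hself, mul_zero] at hpa
          exact zero_ne_one hpa)
      rw [finrank_span_singleton (fun h => ha0 (by rw [h]; exact Submodule.zero_mem _))] at this
      omega
    rw [← hC] at h1 h3
    omega
  obtain ⟨e, he, hr, hB⟩ := exists_symp_coords hQ h2 (m := m) (hC ▸ qperp_nd hQ hPnd) hCd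
  have heC : ∀ y, e y ∈ qperp hQ P := fun y => hC ▸ hr ▸ ⟨y, rfl⟩
  have hea : ∀ y, pol Q (e y) a = 0 := fun y => heC y a haP
  have hep : ∀ y, pol Q (e y) p = 0 := fun y => heC y p hpP
  -- the coordinates
  let π : (ι → F) →ₗ[F] (Fin m ⊕ Fin m → F) :=
    { toFun := fun x => Sum.elim (fun i => -pol Q x (e (rv i))) (fun i => pol Q x (e (lv i)))
      map_add' := fun x y => funext fun i => by rcases i with i | i <;> simp [padd_left hQ, add_comm]
      map_smul' := fun r x => funext fun i => by rcases i with i | i <;> simp [psmul_left hQ] }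
  have hπe : ∀ y, π (e y) = y := fun y => funext fun i => by
    rcases i with i | i
    · show -pol Q (e y) (e (rv i)) = _
      rw [hB, sf_rv, neg_neg]
    · show pol Q (e y) (e (lv i)) = _
      rw [hB, sf_lv]
  have hπperp : ∀ x ∈ P, π x = 0 := fun x hx => funext fun i => by
    rcases i with i | i
    · show -pol Q x (e (rv i)) = 0
      rw [pcomm, heC _ x hx, neg_zero]
    · show pol Q x (e (lv i)) = 0
      rw [pcomm, heC _ x hx]
  have hdec : ∀ x, x - e (π x) ∈ P := fun x => by
    obtain ⟨z, hz, hxz⟩ := qperp_decomp hQ hPnd x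
    obtain ⟨y, hy⟩ : x - z ∈ LinearMap.range e := by rw [hr, hC]; exact hxz
    have : π x = y := by rw [show x = e y + z by rw [hy, sub_add_cancel], map_add, hπe, hπperp z hz, add_zero]
    rw [this, hy, sub_sub_cancel]
    exact hz
  have hline : ∀ x, pol Q x a = 0 → ∃ s : F, x = e (π x) + s • a := fun x hx => by
    obtain ⟨s, t, hst, ht, -⟩ := hPel _ (hdec x)
    rw [psub_left hQ, hx, hea, sub_zero] at ht
    exact ⟨s, by rw [← ht, zero_smul, add_zero] at hst; rw [← hst, add_sub_cancel]⟩
  have hfix : ∀ g : ↥(fixer Q {a}), (omv g.1 : Matrix ι ι F) *ᵥ a = a := fun g => g.2 a rfl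
  have hga : ∀ (g : ↥(fixer Q {a})) y, pol Q ((omv g.1 : Matrix ι ι F) *ᵥ e y) a = 0 := fun g y => by
    have h := iso_pol (omv_iso g.1) (e y) a
    rwa [hfix g, hea] at h
  let A : ↥(fixer Q {a}) → Matrix (Fin m ⊕ Fin m) (Fin m ⊕ Fin m) F := fun g =>
    LinearMap.toMatrix' (π.comp ((Matrix.mulVecLin (omv g.1 : Matrix ι ι F)).comp e))
  have hA : ∀ g y, A g *ᵥ y = π ((omv g.1 : Matrix ι ι F) *ᵥ e y) := fun g y => LinearMap.toMatrix'_mulVec _ _
  have hmem : ∀ g, A g ∈ Matrix.symplecticGroup (Fin m) F := fun g => mem_sp_iff.2 fun u v => by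
    obtain ⟨s, hs⟩ := hline _ (hga g v)
    obtain ⟨r, hr'⟩ := hline _ (hga g u)
    rw [hA, hA, ← hB]
    conv_rhs => rw [← hB, ← iso_pol (omv_iso g.1) (e u) (e v), hs, hr']
    simp only [padd_left hQ, padd_right hQ, psmul_left hQ, psmul_right hQ, hself, hea, pcomm a (e _)]
    ring
  have huniq : ∀ g h : Matrix.symplecticGroup (Fin m) F, (∀ y, g.1 *ᵥ y = h.1 *ᵥ y) → g = h :=
    fun g h hgh => sp_ext_vec hgh
  let Φ : ↥(fixer Q {a}) →* ↥(Matrix.symplecticGroup (Fin m) F) :=
    MonoidHom.mk' (fun g => ⟨A g, hmem g⟩) fun g h => huniq _ _ fun y => by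
      rw [sp_mul_mulVec]
      show A (g * h) *ᵥ y = A g *ᵥ (A h *ᵥ y)
      rw [hA, hA, hA]
      show π (((omv g.1 * omv h.1 : GL ι F) : Matrix ι ι F) *ᵥ e y) = _
      obtain ⟨s, hs⟩ := hline _ (hga h y)
      rw [gl_mul_mulVec]
      conv_lhs => rw [hs, mulVec_add, mulVec_smul, hfix, map_add, map_smul, hπperp a haP, smul_zero, add_zero]
  -- reflections
  obtain ⟨r, hri, hrv⟩ := exists_refl hQ (show Q a ≠ 0 by rw [hQa]; exact one_ne_zero)
  obtain ⟨hr1, -⟩ := refl_spn hQ hri hrv (by rw [hQa]; exact one_ne_zero)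
  have hra : ∀ x, (r : Matrix ι ι F) *ᵥ x = x - pol Q x a • a := fun x => by rw [hrv, hQa, inv_one, one_mul]
  have hinj : Function.Injective Φ := (injective_iff_map_eq_one Φ).2 fun g hg => by
    have hgy : ∀ y, π ((omv g.1 : Matrix ι ι F) *ᵥ e y) = y := fun y => by
      rw [← hA, show A g = 1 from congrArg Subtype.val hg, one_mulVec]
    have hge : ∀ y, (omv g.1 : Matrix ι ι F) *ᵥ e y = e y := fun y => by
      obtain ⟨s, hs⟩ := hline _ (hga g y)
      rw [hgy] at hs
      have h := mem_iso.1 (omv_iso g.1) (e y)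
      rw [hs, qadd hQ, qsmul hQ, hQa, psmul_right hQ, hea, mul_zero, add_zero, mul_one, add_eq_left] at h
      rw [hs, pow_eq_zero_iff two_ne_zero |>.1 h, zero_smul, add_zero]
    have hd : pol Q ((omv g.1 : Matrix ι ι F) *ᵥ p - p) a = 0 := by
      rw [psub_left hQ, hpa]
      have h := iso_pol (omv_iso g.1) p a
      rw [hfix g, hpa] at h
      rw [h, sub_self]
    obtain ⟨s, hs⟩ := hline _ hd
    have hπ0 : π ((omv g.1 : Matrix ι ι F) *ᵥ p - p) = 0 := by
      rw [map_sub, hπperp p hpP, sub_zero]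
      refine funext fun i => ?_
      have key : ∀ y, pol Q ((omv g.1 : Matrix ι ι F) *ᵥ p) (e y) = 0 := fun y => by
        rw [← hge y, iso_pol (omv_iso g.1), pcomm, hep]
      rcases i with i | i
      · show -pol Q _ (e (rv i)) = 0
        rw [key, neg_zero]
      · show pol Q _ (e (lv i)) = 0
        rw [key]
    rw [hπ0, map_zero, zero_add] at hs
    have hgp : (omv g.1 : Matrix ι ι F) *ᵥ p = p + s • a := by rw [← hs, add_sub_cancel]
    have hall : ∀ x, (omv g.1 : Matrix ι ι F) *ᵥ x = x + (s * pol Q x a) • a := fun x => by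
      obtain ⟨u, t, hut, ht, -⟩ := hPel _ (hdec x)
      rw [psub_left hQ, hea, sub_zero] at ht
      have hx : x = e (π x) + (u • a + t • p) := by rw [← hut, add_sub_cancel]
      conv_lhs => rw [hx, mulVec_add, mulVec_add, mulVec_smul, mulVec_smul, hge, hfix, hgp]
      conv_rhs => arg 1; rw [hx]
      rw [ht]
      module
    have h := mem_iso.1 (omv_iso g.1) p
    rw [hgp, qadd hQ, qsmul hQ, hQa, psmul_right hQ, hpa] at h
    have hs0 : s = 0 ∨ s = -1 := by
      rcases mul_eq_zero.1 (show s * (s + 1) = 0 by linear_combination h) with e' | e'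
      · exact Or.inl e'
      · exact Or.inr (eq_neg_of_add_eq_zero_left e')
    rcases hs0 with hs0 | hs0
    · refine Subtype.ext (omv_injective (gl_ext_vec fun x => ?_))
      show (omv g.1 : Matrix ι ι F) *ᵥ x = ((1 : GL ι F) : Matrix ι ι F) *ᵥ x
      rw [hall, hs0, zero_mul, zero_smul, add_zero, Units.val_one, one_mulVec]
    · exfalso
      have hgr : omv g.1 = r := gl_ext_vec fun x => by rw [hall, hra, hs0]; module
      have hev := ((mem_omega_iff hQ hn hex g.1.1).1 g.1.2).2
      rw [show (g.1.1.1 : GL ι F) = r from hgr, hr1] at hev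
      exact Nat.not_even_one hev
  -- lifting
  have hsq : ∀ t : F, ∃ u : F, u ^ 2 = t := fun t => by
    obtain ⟨u, hu⟩ := CfsgLib.Orth.isSquare_of_two h2 t
    exact ⟨u, by rw [hu, sq]⟩
  choose sq' hsq' using hsq
  have hsurj : Function.Surjective Φ := fun S => by
    have hLI : ∀ (T : Matrix.symplecticGroup (Fin m) F) (lam : Fin m ⊕ Fin m → F),
        LinearIndependent F (fun o : Option (Fin m ⊕ Fin m) =>
          o.elim a fun i => e (T.1 *ᵥ Pi.single i 1) + lam i • a) := by
      intro T lam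
      rw [Fintype.linearIndependent_iff]
      intro c hc
      rw [Fintype.sum_option] at hc
      have h1 := congrArg π hc
      simp only [Option.elim_none, Option.elim_some, map_add, map_smul, map_sum, hπe, hπperp a haP, smul_zero,
        zero_add, add_zero, map_zero, ← mulVec_smul] at h1
      rw [← Matrix.mulVec_sum] at h1
      have h3 : (fun i => c (some i)) = 0 := by
        have h4 : ∑ i, c (some i) • (Pi.single i 1 : Fin m ⊕ Fin m → F) = 0 := by
          by_contra hne
          exact sp_mulVec_ne_zero T hne h1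
        refine funext fun j => ?_
        have h5 := congrFun h4 j
        simpa [Finset.sum_apply, Pi.single_apply] using h5
      intro o
      rcases o with _ | i
      · simp only [Option.elim_none, Option.elim_some] at hc
        rw [Finset.sum_eq_zero fun i _ => by rw [show c (some i) = 0 from congrFun h3 i, zero_smul], add_zero,
          smul_eq_zero] at hc
        exact hc.resolve_right fun h => ha0 (by rw [h]; exact Submodule.zero_mem _)
      · exact congrFun h3 i
    obtain ⟨s, hs⟩ : ∃ s, s = fun o : Option (Fin m ⊕ Fin m) =>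
        o.elim a fun i => e ((1 : Matrix.symplecticGroup (Fin m) F).1 *ᵥ Pi.single i 1) + (0 : F) • a := ⟨_, rfl⟩
    obtain ⟨t, ht⟩ : ∃ t, t = fun o : Option (Fin m ⊕ Fin m) =>
        o.elim a fun i => e (S.1 *ᵥ Pi.single i 1) +
          sq' (Q (e (Pi.single i 1)) - Q (e (S.1 *ᵥ Pi.single i 1))) • a := ⟨_, rfl⟩
    have hs' : ∀ i, s (some i) = e (Pi.single i 1) := fun i => by
      rw [hs]; simp [sp_one_mulVec]
    obtain ⟨g, hg, hgs⟩ := exists_iso_maps hQ s t (hs ▸ hLI 1 _) (ht ▸ hLI S _) (fun o => by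
      rcases o with _ | i
      · rw [hs, ht]; rfl
      · rw [hs', ht]
        simp only [Option.elim_some, qadd hQ, qsmul hQ, hQa, psmul_right hQ, hea, hsq', mul_zero, mul_one,
          add_zero, add_sub_cancel]) (fun o o' => by
      rcases o with _ | i <;> rcases o' with _ | j
      · rw [hs, ht]; rfl
      · rw [hs', hs, ht]
        simp only [Option.elim_some, Option.elim_none, padd_right hQ, psmul_right hQ, hself, mul_zero, add_zero,
          pcomm a (e _), hea]
      · rw [hs', hs, ht]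
        simp only [Option.elim_some, Option.elim_none, padd_left hQ, psmul_left hQ, hself, mul_zero, add_zero, hea]
      · rw [hs', hs', ht]
        simp only [Option.elim_some, padd_left hQ, padd_right hQ, psmul_left hQ, psmul_right hQ, hself, mul_zero,
          add_zero, hea, pcomm a (e _), hB, sf_sp])
    obtain ⟨g', hg', hgs', hev⟩ : ∃ g' ∈ Cfsg.isometryGroup F Q, (∀ o, (g' : Matrix ι ι F) *ᵥ s o = t o) ∧
        Even (wrk g') := by
      by_cases hev : Even (wrk g)
      · exact ⟨g, hg, hgs, hev⟩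
      · refine ⟨r * g, mul_mem hri hg, fun o => ?_, ?_⟩
        · rw [gl_mul_mulVec, hgs, hra]
          have : pol Q (t o) a = 0 := by
            rcases o with _ | i
            · rw [ht]; exact hself a
            · rw [ht]; simp only [Option.elim_some, padd_left hQ, psmul_left hQ, hself, mul_zero, add_zero, hea]
          rw [this, zero_smul, sub_zero]
        · rw [(spn_mul hQ (iso_le_reflGroup hQ hex hri) hg).2, hr1]
          simp [hev]
    have hsp : spn Q g' = 1 := by
      obtain ⟨u, hu⟩ : ∃ u, sqMk F u = spn Q g' := QuotientGroup.mk'_surjective _ _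
      rw [← hu, sqMk_eq_one_iff]
      exact ⟨Units.mk0 (sq' (u : F)) (fun h => u.ne_zero (by rw [← hsq' (u : F), h, zero_pow two_ne_zero])),
        Units.ext (by simp [hsq'])⟩
    have hga' : (g' : Matrix ι ι F) *ᵥ a = a := by have := hgs' none; rwa [hs, ht] at this
    refine ⟨⟨⟨⟨g', hg'⟩, (mem_omega_iff hQ hn hex _).2 ⟨hsp, hev⟩⟩, fun v hv => by
      rw [Set.mem_singleton_iff] at hv; rw [hv]; exact hga'⟩, huniq _ _ ?_⟩
    have key : ∀ i, π ((g' : Matrix ι ι F) *ᵥ e (Pi.single i 1)) = S.1 *ᵥ Pi.single i 1 := fun i => by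
      rw [← hs', hgs', ht]
      simp only [Option.elim_some, map_add, map_smul, hπe, hπperp a haP, smul_zero, add_zero]
    intro y
    show A _ *ᵥ y = S.1 *ᵥ y
    rw [hA]
    show π ((g' : Matrix ι ι F) *ᵥ e y) = _
    have := LinearMap.congr_fun ((Pi.basisFun F (Fin m ⊕ Fin m)).ext
      (f₁ := π.comp ((Matrix.mulVecLin (g' : Matrix ι ι F)).comp e)) (f₂ := Matrix.mulVecLin S.1)
      fun i => by rw [Pi.basisFun_apply]; exact key i) y
    exact this
  exact ⟨MulEquiv.ofBijective Φ ⟨hinj, hsurj⟩⟩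

omit hQ h2 in
/-- stem extensions of symplectic groups in characteristic two are trivial -/
theorem sp_stem_trivial {m : ℕ} (hm : 2 ≤ m) (h : m = 2 → 3 ≤ Fintype.card F)
    (hexc : ¬ (m = 3 ∧ Fintype.card F = 2)) {P : Type*} [Group P]
    (σ : P →* ↥(Matrix.symplecticGroup (Fin m) F)) (hσ : Cfsg.IsStemExtension σ) : Nat.card σ.ker ≤ 1 := by
  obtain ⟨s, hs⟩ := SpUniv.exists_section_sp hm h hexc σ hσ.1 hσ.2.1
  have hle : commutator P ≤ s.range := by
    rw [commutator_def, Subgroup.commutator_le]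
    rintro x - y -
    refine ⟨⁅σ x, σ y⁆, ?_⟩
    rw [map_commutatorElement]
    refine SLUniv.comm_congr hσ.2.1 ?_ ?_ <;> exact DFunLike.congr_fun hs _
  have hbot : σ.ker = ⊥ := by
    rw [Subgroup.eq_bot_iff_forall]
    intro z hz
    obtain ⟨u, rfl⟩ := hle (hσ.2.2 hz)
    have hu : σ (s u) = u := DFunLike.congr_fun hs u
    rw [MonoidHom.mem_ker, hu] at hz
    rw [hz, map_one]
  rw [hbot, Subgroup.card_bot]

end CfsgLib.Lie.Mult.Orth
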