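import Cfsg.Agent.Lib.Orth.Facts
import Cfsg.Agent.Lib.Perm.Trans.QuadNondeg
import Cfsg.Agent.Lib.Perm.Trans.QuadWitt

/-!
# Values on perpendiculars and elements of `Omega` with prescribed images

The perpendicular of a small subspace takes every value, and an isometry between two independent families
extends to an element of `Omega` as soon as the perpendicular of the second family takes every value.
-/

set_option autoImplicit false
set_option linter.all false

namespace CfsgLib.Lie.Mult.Orth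

open scoped Matrix
open Matrix Cfsg.Geo CfsgLib.Orth CfsgLib.Perm.Asch CfsgLib.Perm.Trans CfsgLib.Perm.Trans.Quad

variable {ι : Type} [Fintype ι] [DecidableEq ι] {F : Type*} [Field F] [Fintype F]
variable {Q : (ι → F) → F}

local notation "pol" => QuadraticMap.polar

variable (hQ : IsNondegenerateQuadraticForm Q)
include hQ

theorem qperp_qperp_any (T : Submodule F (ι → F)) : qperp hQ (qperp hQ T) = T := by
  refine (Submodule.eq_of_le_of_finrank_le (fun x hx w hw => by rw [pcomm]; exact hw x hx) ?_).symm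
  have h1 := finrank_qperp hQ T
  have h2 := CfsgLib.Orth.finrank_qperp_le hQ (qperp hQ T)
  omega

/-- the perpendicular of `T` takes every value if it exceeds its radical by two -/
theorem exists_value_qperp {T : Submodule F (ι → F)}
    (h : Module.finrank F ↥(qperp hQ T ⊓ T) + 2 + Module.finrank F T ≤ Fintype.card ι) (e : F) :
    ∃ w ∈ qperp hQ T, Q w = e := by
  obtain ⟨K, hK⟩ : ∃ K, K = qperp hQ T := ⟨_, rfl⟩
  rw [← hK] at h ⊢
  obtain ⟨C₀, hC₀⟩ := Submodule.exists_isCompl (K ⊓ T)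
  have hmod : (K ⊓ T) ⊔ (C₀ ⊓ K) = K := by
    rw [← sup_inf_assoc_of_le C₀ inf_le_left, hC₀.sup_eq_top, top_inf_eq]
  have hKT : qperp hQ K = T := hK ▸ qperp_qperp_any hQ T
  have hnd : NdOn Q (C₀ ⊓ K) := by
    intro v hv hv0
    have key : ∃ y ∈ C₀ ⊓ K, pol Q v y ≠ 0 := by
      by_contra hcon
      push Not at hcon
      have hvT : v ∈ T := by
        rw [← hKT]
        intro k hk
        obtain ⟨r, hr, y, hy, rfl⟩ := Submodule.mem_sup.1 (hmod.ge hk)
        rw [padd_right hQ, hcon y hy, add_zero]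
        exact (hK ▸ hv.2 : v ∈ qperp hQ T) r hr.2
      exact hv0 ((Submodule.disjoint_def.1 hC₀.disjoint) v ⟨hv.2, hvT⟩ hv.1)
    obtain ⟨y, hy, hvy⟩ := key
    exact ⟨⟨y, hy, by rwa [pcomm]⟩, y, hy, hvy⟩
  have hd : 2 ≤ Module.finrank F ↥(C₀ ⊓ K) := by
    have h1 := Submodule.finrank_add_le_finrank_add_finrank (K ⊓ T) (C₀ ⊓ K)
    rw [hmod] at h1
    have h2 := finrank_qperp hQ T
    rw [← hK] at h2
    omega
  obtain ⟨w, hw, hwe⟩ := exists_value_two hQ hnd hd e
  exact ⟨w, hw.2, hwe⟩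

/-- the radical of a span -/
theorem rad_le (T : Submodule F (ι → F)) :
    Module.finrank F ↥(qperp hQ T ⊓ T) ≤ Module.finrank F T := Submodule.finrank_mono inf_le_right

theorem rad_lt {T : Submodule F (ι → F)} {u y : ι → F} (hu : u ∈ T) (hy : y ∈ T) (h : pol Q y u ≠ 0) :
    Module.finrank F ↥(qperp hQ T ⊓ T) + 1 ≤ Module.finrank F T :=
  Submodule.finrank_lt_finrank_of_lt (lt_of_le_of_ne inf_le_right fun e =>
    h ((e.ge hy : y ∈ qperp hQ T ⊓ T).1 u hu))

theorem rad_lt_two {T : Submodule F (ι → F)} {u y : ι → F} (hu : u ∈ T) (hy : y ∈ T) (h : pol Q u y ≠ 0)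
    (h0 : pol Q u u = 0) : Module.finrank F ↥(qperp hQ T ⊓ T) + 2 ≤ Module.finrank F T := by
  have h1 : Module.finrank F ↥(T ⊓ LinearMap.ker (pfl hQ u)) < Module.finrank F T :=
    Submodule.finrank_lt_finrank_of_lt (lt_of_le_of_ne inf_le_left fun e =>
      h (by rw [pcomm]; exact LinearMap.mem_ker.1 (e.ge hy : y ∈ T ⊓ LinearMap.ker (pfl hQ u)).2))
  have h2 : Module.finrank F ↥(qperp hQ T ⊓ T) < Module.finrank F ↥(T ⊓ LinearMap.ker (pfl hQ u)) := by
    refine Submodule.finrank_lt_finrank_of_lt (lt_of_le_of_ne (fun x hx => ⟨hx.2, ?_⟩) fun e => ?_)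
    · exact LinearMap.mem_ker.2 (hx.1 u hu)
    · have : u ∈ qperp hQ T ⊓ T := e.ge ⟨hu, LinearMap.mem_ker.2 h0⟩
      exact h (this.1 y hy)
  omega

omit [Fintype F] hQ in
theorem finrank_span_fin {k : ℕ} (t : Fin k → ι → F) :
    Module.finrank F (Submodule.span F (Set.range t)) ≤ k := by
  exact (finrank_range_le_card t).trans_eq (Fintype.card_fin k)

/-- equal Gram data give equal values -/
theorem q_sum_eq {κ : Type*} (s t : κ → ι → F) (hq : ∀ i, Q (s i) = Q (t i))
    (hb : ∀ i j, pol Q (s i) (s j) = pol Q (t i) (t j)) (c : κ → F) (S : Finset κ) :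
    Q (∑ i ∈ S, c i • s i) = Q (∑ i ∈ S, c i • t i) ∧
      ∀ j, pol Q (s j) (∑ i ∈ S, c i • s i) = pol Q (t j) (∑ i ∈ S, c i • t i) := by
  classical
  induction S using Finset.induction with
  | empty => exact ⟨rfl, fun j => by simp only [Finset.sum_empty, pzero_right hQ]⟩
  | insert i S hi ih =>
    refine ⟨?_, fun j => ?_⟩
    · rw [Finset.sum_insert hi, Finset.sum_insert hi, qadd hQ, qadd hQ, qsmul hQ, qsmul hQ, psmul_left hQ,
        psmul_left hQ, hq, ih.1, ih.2]
    · rw [Finset.sum_insert hi, Finset.sum_insert hi, padd_right hQ, padd_right hQ, psmul_right hQ,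
        psmul_right hQ, hb, ih.2]

/-- Witt's theorem for independent families -/
theorem exists_iso_maps {κ : Type*} [Fintype κ] (s t : κ → ι → F) (hs : LinearIndependent F s)
    (ht : LinearIndependent F t) (hq : ∀ i, Q (s i) = Q (t i))
    (hb : ∀ i j, pol Q (s i) (s j) = pol Q (t i) (t j)) :
    ∃ g ∈ Cfsg.isometryGroup F Q, ∀ i, (g : Matrix ι ι F) *ᵥ s i = t i := by
  obtain ⟨B, hB, hBn⟩ := exists_bundled hQ
  obtain ⟨b, hbdef⟩ : ∃ b : Module.Basis κ F (Submodule.span F (Set.range s)), b = Module.Basis.span hs := ⟨_, rfl⟩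
  have hbs : ∀ i, (b i : ι → F) = s i := fun i => hbdef ▸ congrArg Subtype.val (Module.Basis.span_apply hs i)
  obtain ⟨φ, hφdef⟩ : ∃ φ : Submodule.span F (Set.range s) →ₗ[F] (ι → F), φ = b.constr F t := ⟨_, rfl⟩
  have hexp : ∀ x : Submodule.span F (Set.range s), (x : ι → F) = ∑ i, b.repr x i • s i := fun x => by
    conv_lhs => rw [← b.sum_repr x]
    rw [Submodule.coe_sum]
    exact Finset.sum_congr rfl fun i _ => by rw [Submodule.coe_smul, hbs]
  have hφ : ∀ x : Submodule.span F (Set.range s), φ x = ∑ i, b.repr x i • t i := fun x => by rw [hφdef, Module.Basis.constr_apply_fintype]; rfl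
  obtain ⟨g, hg, hgφ⟩ := Witt.witt_extension hBn _ φ
    (by
      refine (injective_iff_map_eq_zero φ).2 fun x hx => ?_
      rw [hφ] at hx
      refine b.repr.injective (Finsupp.ext fun i => ?_)
      rw [map_zero, Finsupp.zero_apply]
      exact Fintype.linearIndependent_iff.1 ht _ hx i)
    (fun x => by
      rw [hB, hφ, hexp x]
      exact ((q_sum_eq hQ s t hq hb _ Finset.univ).1).symm)
  obtain ⟨k, hk, hkg⟩ := exists_iso_of_equiv (Q := Q) g (by rw [← hB]; exact hg)
  refine ⟨k, hk, fun i => ?_⟩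
  rw [hkg, ← hbs i, hgφ]
  rw [hφdef]; exact Module.Basis.constr_basis b F t i

omit hQ in
/-- the action of `Omega` on vectors of one value -/
abbrev Sph (Q : (ι → F) → F) (c : F) : Type _ := {v : ι → F // Q v = c}

/-- an element of `Omega` with prescribed images -/
theorem exists_omega_maps (hn : 2 ≤ Fintype.card ι) (hex : Fintype.card F ≠ 2 ∨ Fintype.card ι ≠ 4)
    {κ : Type*} [Fintype κ] (s t : κ → ι → F) (hs : LinearIndependent F s) (ht : LinearIndependent F t)
    (hq : ∀ i, Q (s i) = Q (t i)) (hb : ∀ i j, pol Q (s i) (s j) = pol Q (t i) (t j))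
    (room : ∀ e : F, e ≠ 0 → ∃ y ∈ qperp hQ (Submodule.span F (Set.range t)), Q y = e) :
    ∃ g : Cfsg.Omega F Q, ∀ i, (g.1.1 : Matrix ι ι F) *ᵥ s i = t i := by
  obtain ⟨g, hg, hgs⟩ := exists_iso_maps hQ s t hs ht hq hb
  have fix : ∀ e : F, e ≠ 0 → ∃ r ∈ Cfsg.isometryGroup F Q, (∀ i, (r : Matrix ι ι F) *ᵥ t i = t i) ∧
      wrk r = 1 ∧ spn Q r = sqc e := by
    intro e he
    obtain ⟨y, hy, hye⟩ := room e he
    obtain ⟨r, hr, hrv⟩ := exists_refl hQ (v := y) (by rwa [hye])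
    obtain ⟨e1, e2⟩ := refl_spn hQ hr hrv (by rwa [hye])
    refine ⟨r, hr, fun i => refl_fix hQ hrv ?_, e1, by rw [e2, hye]⟩
    rw [pcomm]
    exact hy _ (Submodule.subset_span ⟨i, rfl⟩)
  -- parity
  obtain ⟨g', hg', hgs', hev⟩ : ∃ g' ∈ Cfsg.isometryGroup F Q,
      (∀ i, (g' : Matrix ι ι F) *ᵥ s i = t i) ∧ Even (wrk g') := by
    by_cases hev : Even (wrk g)
    · exact ⟨g, hg, hgs, hev⟩
    · obtain ⟨r, hr, hrt, e1, -⟩ := fix 1 one_ne_zero
      refine ⟨r * g, mul_mem hr hg, fun i => by rw [gl_mul_mulVec, hgs, hrt], ?_⟩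
      rw [(spn_mul hQ (iso_le_reflGroup hQ hex hr) hg).2, e1]
      simp [hev]
  -- spinor norm
  obtain ⟨u, hu⟩ : ∃ u, sqMk F u = spn Q g' := QuotientGroup.mk'_surjective _ _
  have hu' : sqc (u : F) = spn Q g' := by
    rw [← hu]
    unfold sqc
    rw [dif_neg u.ne_zero]
    exact congrArg _ (Units.ext rfl)
  obtain ⟨r, hr, hrt, e1, e2⟩ := fix 1 one_ne_zero
  obtain ⟨r', hr', hrt', f1, f2⟩ := fix u u.ne_zero
  obtain ⟨p, q⟩ := spn_mul hQ (iso_le_reflGroup hQ hex hr) hr'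
  obtain ⟨p', q'⟩ := spn_mul hQ (iso_le_reflGroup hQ hex (mul_mem hr hr')) hg'
  refine ⟨⟨⟨r * r' * g', mul_mem (mul_mem hr hr') hg'⟩, (mem_omega_iff hQ hn hex _).2 ⟨?_, ?_⟩⟩, fun i => ?_⟩
  · show spn Q (r * r' * g') = 1
    rw [p', p, e2, f2, sqc_one, one_mul, ← hu', sqc_mul_self u.ne_zero]
  · show Even (wrk (r * r' * g'))
    rw [q', q, e1, f1]
    simp [hev]
  · show ((r * r' * g' : GL ι F) : Matrix ι ι F) *ᵥ s i = t i
    rw [gl_mul_mulVec, hgs', gl_mul_mulVec, hrt', hrt]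

end CfsgLib.Lie.Mult.Orth
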