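import Cfsg.Agent.Lib.Lie.Mult.Orth.Agree

/-!
# Midpoints, their connectedness, and a generating element

Midpoints of the base vector and `x` are the vectors orthogonal to both and independent of them.
-/

set_option autoImplicit false
set_option linter.all false

namespace CfsgLib.Lie.Mult.Orth

open scoped Matrix commutatorElement
open Matrix Cfsg.Geo CfsgLib.Orth CfsgLib.Perm.Asch CfsgLib.Perm.Trans CfsgLib.Perm.Trans.Quad
open MulAction (stabilizer)

variable {ι : Type} [Fintype ι] [DecidableEq ι] {F : Type*} [Field F] [Fintype F]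
variable {Q : (ι → F) → F} {c : F}

local notation "pol" => QuadraticMap.polar

/-- midpoints -/
def Mid (a : Sph Q c) (x w : Sph Q c) : Prop :=
  pol Q a.1 w.1 = 0 ∧ pol Q x.1 w.1 = 0 ∧ a.1 ∉ Submodule.span F {w.1} ∧ x.1 ∉ Submodule.span F {w.1}

omit [Fintype F] in
theorem mem_single_of_smul {g : Cfsg.Omega F Q} {z w : ι → F}
    (h : (omv g : Matrix ι ι F) *ᵥ z ∈ Submodule.span F {(omv g : Matrix ι ι F) *ᵥ w}) :
    z ∈ Submodule.span F {w} := by
  obtain ⟨t, ht⟩ := Submodule.mem_span_singleton.1 h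
  rw [← mulVec_smul] at ht
  refine Submodule.mem_span_singleton.2 ⟨t, ?_⟩
  exact Matrix.mulVec_injective_iff_isUnit.2 (omv g).isUnit ht

variable (H : Range Q c)
include H

theorem even_one_on_span (h2 : (2 : F) = 0) {p q : Sph Q c} {y z : ι → F} (hpq : pol Q p.1 q.1 = 0)
    (hp : pol Q p.1 y = 1) (hq : pol Q q.1 y = 1) (hz : Q z = c)
    (hmem : z ∈ Submodule.span F ({p.1, q.1} : Set (ι → F))) : pol Q z y = 1 := by
  haveI : CharP F 2 := CharTwo.of_one_ne_zero_of_two_eq_zero one_ne_zero h2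
  obtain ⟨α, β, rfl⟩ := Submodule.mem_span_pair.1 hmem
  rw [qadd H.nd, qsmul H.nd, qsmul H.nd, psmul_left H.nd, psmul_right H.nd, hpq, p.2, q.2, H.cone h2] at hz
  have h : (α + β) ^ 2 = 1 := by linear_combination hz + α * β * h2
  rw [padd_left H.nd, psmul_left H.nd, psmul_left H.nd, hp, hq, mul_one, mul_one]
  rcases sq_eq_one_iff.1 h with e | e
  · exact e
  · rw [e, CharTwo.neg_eq]

omit H in
theorem not_mem_single_of {y : ι → F} {z w : ι → F} (hQ : IsNondegenerateQuadraticForm Q)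
    (hz : pol Q z y ≠ 0) (hw : pol Q w y = 0) : z ∉ Submodule.span F {w} := fun h => by
  obtain ⟨t, rfl⟩ := Submodule.mem_span_singleton.1 h
  rw [psmul_left hQ, hw, mul_zero] at hz
  exact hz rfl

omit H in
theorem not_mem_of_perp {z w : ι → F} (hQ : IsNondegenerateQuadraticForm Q) (hz : pol Q z z ≠ 0)
    (hzw : pol Q w z = 0) : z ∉ Submodule.span F {w} := fun h => by
  obtain ⟨t, ht⟩ := Submodule.mem_span_singleton.1 h
  refine hz ?_
  calc pol Q z z = pol Q (t • w) z := by rw [ht]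
    _ = 0 := by rw [psmul_left hQ, hzw, mul_zero]

/-- a functional equal to one on two vectors of the sphere -/
theorem exists_even_y (h2 : (2 : F) = 0) (a x : Sph Q c) :
    ∃ y, pol Q a.1 y = 1 ∧ pol Q x.1 y = 1 := by
  haveI : CharP F 2 := CharTwo.of_one_ne_zero_of_two_eq_zero one_ne_zero h2
  have hna : a.1 ∉ Submodule.span F {a.1 + x.1} := by
    intro h
    obtain ⟨t, ht⟩ := Submodule.mem_span_singleton.1 h
    by_cases ht0 : t = 0
    · rw [ht0, zero_smul] at ht
      exact H.ne_zero a ht.symm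
    · -- then `x` is a multiple of `a`
      have hx : x.1 = ((1 - t) / t) • a.1 := by
        rw [div_eq_inv_mul, mul_smul, eq_inv_smul_iff₀ ht0]
        linear_combination (norm := module) ht
      have hq := x.2
      rw [hx, qsmul H.nd, a.2, H.cone h2, mul_one] at hq
      have h1 : (1 - t) / t = 1 := by
        rcases sq_eq_one_iff.1 hq with e | e
        · exact e
        · rw [e, CharTwo.neg_eq]
      rw [h1, one_smul] at hx
      rw [hx, show a.1 + a.1 = 0 by rw [← two_smul F a.1, h2, zero_smul], smul_zero] at ht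
      exact H.ne_zero a ht.symm
  obtain ⟨y, hy, hay⟩ := exists_qperp_ne H.nd hna
  refine ⟨y, hay, ?_⟩
  have h : pol Q (a.1 + x.1) y = 0 := by
    rw [pcomm]; exact hy _ (Submodule.mem_span_singleton_self _)
  rw [padd_left H.nd, hay] at h
  rw [show pol Q x.1 y = -1 by linear_combination h, CharTwo.neg_eq]

theorem exists_mid (a x : Sph Q c) : ∃ w, Mid a x w := by
  by_cases h2 : (2 : F) = 0
  · obtain ⟨y, hay, hxy⟩ := exists_even_y H h2 a x
    obtain ⟨T, hT⟩ : ∃ T, T = Submodule.span F ({a.1, x.1, y} : Set (ι → F)) := ⟨_, rfl⟩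
    obtain ⟨w, hw, hwe⟩ := room H (T := T) (hT ▸ finrank_triple _ _ _) (u := a)
      (hT ▸ Submodule.subset_span (by simp)) c
    rw [hT, mem_qperp_span] at hw
    exact ⟨⟨w, hwe⟩, by rw [pcomm]; exact hw a.1 (by simp), by rw [pcomm]; exact hw x.1 (by simp),
      not_mem_single_of H.nd (by rw [hay]; exact one_ne_zero) (hw y (by simp)),
      not_mem_single_of H.nd (by rw [hxy]; exact one_ne_zero) (hw y (by simp))⟩
  · obtain ⟨T, hT⟩ : ∃ T, T = Submodule.span F ({a.1, x.1} : Set (ι → F)) := ⟨_, rfl⟩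
    obtain ⟨w, hw, hwe⟩ := room H (T := T) (hT ▸ (finrank_pair _ _).trans (by norm_num)) (u := a)
      (hT ▸ Submodule.subset_span (by simp)) c
    rw [hT, mem_qperp_span] at hw
    exact ⟨⟨w, hwe⟩, by rw [pcomm]; exact hw a.1 (by simp), by rw [pcomm]; exact hw x.1 (by simp),
      not_mem_of_perp H.nd (H.self_ne h2 a) (hw a.1 (by simp)),
      not_mem_of_perp H.nd (H.self_ne h2 x) (hw x.1 (by simp))⟩

/-- elements of `Omega` carrying one short family of vectors on the sphere to another -/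
theorem exists_move {k : ℕ} (hk : k ≤ 3) (hk0 : 0 < k) (s t : Fin k → Sph Q c)
    (hs : LinearIndependent F fun i => (s i).1) (ht : LinearIndependent F fun i => (t i).1)
    (hb : ∀ i j, pol Q (s i).1 (s j).1 = pol Q (t i).1 (t j).1) :
    ∃ g : Cfsg.Omega F Q, ∀ i, g • s i = t i := by
  obtain ⟨g, hg⟩ := exists_omega_maps H.nd H.hn H.hex (fun i => (s i).1) (fun i => (t i).1) hs ht
    (fun i => (s i).2.trans (t i).2.symm) hb (fun e _ =>
      room H ((finrank_span_fin _).trans hk) (u := t ⟨0, hk0⟩) (Submodule.subset_span ⟨_, rfl⟩) e)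
  exact ⟨g, fun i => Subtype.ext (hg i)⟩

omit H in
theorem li_pair {x w : ι → F} (hw : w ≠ 0) (h : x ∉ Submodule.span F {w}) :
    LinearIndependent F ![x, w] := by
  rw [LinearIndependent.pair_symm_iff, LinearIndependent.pair_iff' hw]
  exact fun t e => h (Submodule.mem_span_singleton.2 ⟨t, e⟩)

omit H in
theorem li_triple {x u v : ι → F} (hu : u ≠ 0) (hv : v ∉ Submodule.span F {u})
    (hx : x ∉ Submodule.span F ({u, v} : Set (ι → F))) : LinearIndependent F ![x, u, v] := by
  refine linearIndependent_finCons.2 ?_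
  refine ⟨?_, ?_⟩
  · rw [LinearIndependent.pair_iff' hu]
    exact fun t e => hv (Submodule.mem_span_singleton.2 ⟨t, e⟩)
  · rwa [Matrix.range_cons, Matrix.range_cons, Matrix.range_empty, Set.union_empty, Set.singleton_union]

omit H in
theorem li_one {k : Fin 1 → ι → F} (h : k 0 ≠ 0) : LinearIndependent F k := by
  rw [Fintype.linearIndependent_iff]
  intro t ht i
  fin_cases i
  rw [Fin.sum_univ_one, smul_eq_zero] at ht
  exact ht.resolve_right h

/-- the move of a midpoint -/
theorem mid_move (a x w : Sph Q c) (h : Mid a x w) :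
    ∃ g ∈ stabilizer (Cfsg.Omega F Q) w, g • a = x := by
  obtain ⟨h1, h3, h4, h5⟩ := h
  obtain ⟨g, hg⟩ := exists_move H (k := 2) (by norm_num) (by norm_num) ![a, w] ![x, w]
    (by convert li_pair (H.ne_zero w) h4 using 1; funext i; fin_cases i <;> rfl)
    (by convert li_pair (H.ne_zero w) h5 using 1; funext i; fin_cases i <;> rfl)
    (fun i j => by
      fin_cases i <;> fin_cases j <;>
        simp [H.self, h1, h3, pcomm w.1 a.1, pcomm w.1 x.1])
  exact ⟨g, hg 1, hg 0⟩

/-- two midpoints with independent spans -/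
theorem edge_of_indep {a x u v : Sph Q c} (hu : Mid a x u) (hv : Mid a x v)
    (huv : v.1 ∉ Submodule.span F {u.1}) (ha : a.1 ∉ Submodule.span F ({u.1, v.1} : Set (ι → F)))
    (hx : x.1 ∉ Submodule.span F ({u.1, v.1} : Set (ι → F))) :
    ∃ g ∈ StabStep.J (Cfsg.Omega F Q) u v, g • a = x := by
  obtain ⟨g, hg⟩ := exists_move H (k := 3) le_rfl (by norm_num) ![a, u, v] ![x, u, v]
    (by convert li_triple (H.ne_zero u) huv ha using 1; funext i; fin_cases i <;> rfl)
    (by convert li_triple (H.ne_zero u) huv hx using 1; funext i; fin_cases i <;> rfl)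
    (fun i j => by
      fin_cases i <;> fin_cases j <;>
        simp [H.self, hu.1, hu.2.1, hv.1, hv.2.1, pcomm u.1 a.1, pcomm u.1 x.1, pcomm v.1 a.1,
          pcomm v.1 x.1])
  exact ⟨g, Subgroup.mem_inf.2 ⟨hg 1, hg 2⟩, hg 0⟩

omit H in
theorem exchange {p q r : ι → F} (h : p ∈ Submodule.span F ({q, r} : Set (ι → F)))
    (hp : p ∉ Submodule.span F {q}) : r ∈ Submodule.span F ({q, p} : Set (ι → F)) := by
  obtain ⟨α, β, e⟩ := Submodule.mem_span_pair.1 h
  have hβ : β ≠ 0 := fun h0 => hp (Submodule.mem_span_singleton.2 ⟨α, by rw [← e, h0, zero_smul, add_zero]⟩)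
  refine Submodule.mem_span_pair.2 ⟨-(β⁻¹ * α), β⁻¹, ?_⟩
  rw [← e, smul_add, smul_smul, smul_smul, inv_mul_cancel₀ hβ, one_smul]
  module

/-- midpoints are connected -/
theorem mid_conn (a x w w' : Sph Q c) (hw : Mid a x w) (hw' : Mid a x w') :
    Relation.ReflTransGen (fun u v => Mid a x v ∧ ∃ g ∈ StabStep.J (Cfsg.Omega F Q) u v, g • a = x) w w' := by
  by_cases hpar : w'.1 ∈ Submodule.span F {w.1}
  · obtain ⟨t, ht⟩ := Submodule.mem_span_singleton.1 hpar
    obtain ⟨g, hg, hga⟩ := mid_move H a x w hw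
    refine Relation.ReflTransGen.single ⟨hw', g, Subgroup.mem_inf.2 ⟨hg, mem_stab.2 ?_⟩, hga⟩
    rw [← ht, mulVec_smul, mem_stab.1 hg]
  by_cases hdir : a.1 ∉ Submodule.span F ({w.1, w'.1} : Set (ι → F)) ∧
      x.1 ∉ Submodule.span F ({w.1, w'.1} : Set (ι → F))
  · exact Relation.ReflTransGen.single ⟨hw', edge_of_indep H hw hw' hpar hdir.1 hdir.2⟩
  have h2 : (2 : F) = 0 := by
    by_contra h2
    refine hdir ⟨fun h => ?_, fun h => ?_⟩
    · obtain ⟨α, β, e⟩ := Submodule.mem_span_pair.1 h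
      refine H.self_ne h2 a ?_
      calc pol Q a.1 a.1 = pol Q a.1 (α • w.1 + β • w'.1) := by rw [e]
        _ = 0 := by rw [padd_right H.nd, psmul_right H.nd, psmul_right H.nd, hw.1, hw'.1]; ring
    · obtain ⟨α, β, e⟩ := Submodule.mem_span_pair.1 h
      refine H.self_ne h2 x ?_
      calc pol Q x.1 x.1 = pol Q x.1 (α • w.1 + β • w'.1) := by rw [e]
        _ = 0 := by rw [padd_right H.nd, psmul_right H.nd, psmul_right H.nd, hw.2.1, hw'.2.1]; ring
  haveI : CharP F 2 := CharTwo.of_one_ne_zero_of_two_eq_zero one_ne_zero h2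
  have hq : ∀ α β : F, (Q (α • a.1 + β • w.1)) = (α + β) ^ 2 := fun α β => by
    rw [qadd H.nd, qsmul H.nd, qsmul H.nd, psmul_left H.nd, psmul_right H.nd, hw.1, a.2, w.2, H.cone h2]
    linear_combination (-(α * β)) * h2
  have hself := H.self_zero h2
  -- a functional which is one on all four
  have hna : a.1 ∉ Submodule.span F ({a.1 + w.1, a.1 + x.1} : Set (ι → F)) := by
    intro h
    obtain ⟨α, β, e⟩ := Submodule.mem_span_pair.1 h
    by_cases hβ : β = 0
    · rw [hβ, zero_smul, add_zero] at e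
      by_cases hα : α = 0
      · rw [hα, zero_smul] at e
        exact H.ne_zero a e.symm
      · have : w.1 = (1 / α - 1) • a.1 := by
          rw [sub_smul, one_smul, one_div, eq_sub_iff_add_eq, eq_inv_smul_iff₀ hα, add_comm]
          exact e
        have hq' := hq (1 / α - 1) 0
        rw [zero_smul, add_zero, ← this, w.2, H.cone h2, add_zero] at hq'
        have h1 : 1 / α - 1 = 1 := by
          rcases sq_eq_one_iff.1 hq'.symm with e1 | e1
          · exact e1
          · rw [e1, CharTwo.neg_eq]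
        rw [h1, one_smul] at this
        exact hw.2.2.1 (by rw [← this]; exact Submodule.mem_span_singleton_self _)
    · have hx : x.1 = ((1 - α - β) / β) • a.1 + (-α / β) • w.1 := by
        have e' : β • x.1 = (1 - α - β) • a.1 + (-α) • w.1 := by linear_combination (norm := module) e
        rw [← inv_smul_smul₀ hβ x.1, e', smul_add, smul_smul, smul_smul, div_eq_inv_mul, div_eq_inv_mul]
      have hq' := hq ((1 - α - β) / β) (-α / β)
      rw [← hx, x.2, H.cone h2] at hq'
      have h1 : (1 - α - β) / β + -α / β = 1 := by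
        rcases sq_eq_one_iff.1 hq'.symm with e1 | e1
        · exact e1
        · rw [e1, CharTwo.neg_eq]
      field_simp at h1
      exact one_ne_zero (show (1 : F) = 0 by linear_combination h1 + (α + β) * h2)
  obtain ⟨y, hy, hay⟩ := exists_qperp_ne H.nd hna
  rw [mem_qperp_span] at hy
  have hwy : pol Q w.1 y = 1 := by
    have h := hy (a.1 + w.1) (by simp)
    rw [pcomm, padd_left H.nd, hay] at h
    rw [show pol Q w.1 y = -1 by linear_combination h, CharTwo.neg_eq]
  have hxy : pol Q x.1 y = 1 := by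
    have h := hy (a.1 + x.1) (by simp)
    rw [pcomm, padd_left H.nd, hay] at h
    rw [show pol Q x.1 y = -1 by linear_combination h, CharTwo.neg_eq]
  have hw'y : pol Q w'.1 y = 1 := by
    rcases not_and_or.1 hdir with h | h <;> push Not at h
    · exact even_one_on_span H h2 (by rw [pcomm]; exact hw.1) hwy hay w'.2 (exchange h hw.2.2.1)
    · exact even_one_on_span H h2 (by rw [pcomm]; exact hw.2.1) hwy hxy w'.2 (exchange h hw.2.2.2)
  obtain ⟨T, hT⟩ : ∃ T, T = Submodule.span F ({a.1, x.1, w.1, y} : Set (ι → F)) := ⟨_, rfl⟩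
  obtain ⟨z, hz, hze⟩ := room_four H h2 (T := T) (hT ▸ finrank_four _ _ _ _) (u := a) (y := y)
    (hT ▸ Submodule.subset_span (by simp)) (hT ▸ Submodule.subset_span (by simp))
    (by rw [hay]; exact one_ne_zero) c
  rw [hT, mem_qperp_span] at hz
  have hzy : pol Q z y = 0 := hz y (by simp)
  have hzM : Mid a x (⟨z, hze⟩ : Sph Q c) :=
    ⟨by rw [pcomm]; exact hz a.1 (by simp), by rw [pcomm]; exact hz x.1 (by simp),
      not_mem_single_of H.nd (by rw [hay]; exact one_ne_zero) hzy,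
      not_mem_single_of H.nd (by rw [hxy]; exact one_ne_zero) hzy⟩
  have key : ∀ m : Sph Q c, Mid a x m → pol Q m.1 y = 1 →
      z ∉ Submodule.span F {m.1} ∧ m.1 ∉ Submodule.span F {z} ∧
      a.1 ∉ Submodule.span F ({m.1, z} : Set (ι → F)) ∧ x.1 ∉ Submodule.span F ({m.1, z} : Set (ι → F)) := by
    intro m hm hmy
    refine ⟨fun h => ?_, not_mem_single_of H.nd (by rw [hmy]; exact one_ne_zero) hzy, fun h => ?_, fun h => ?_⟩
    · obtain ⟨t, ht⟩ := Submodule.mem_span_singleton.1 h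
      have h1 : t = 0 := by
        rw [← ht, psmul_left H.nd, hmy, mul_one] at hzy
        exact hzy
      rw [h1, zero_smul] at ht
      exact H.ne_zero ⟨z, hze⟩ ht.symm
    · have := even_one_on_span H h2 (by rw [pcomm]; exact hm.1) hmy hay hze (exchange h hm.2.2.1)
      rw [hzy] at this
      exact zero_ne_one this
    · have := even_one_on_span H h2 (by rw [pcomm]; exact hm.2.1) hmy hxy hze (exchange h hm.2.2.2)
      rw [hzy] at this
      exact zero_ne_one this
  obtain ⟨k1, k2, k3, k4⟩ := key w hw hwy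
  obtain ⟨l1, l2, l3, l4⟩ := key w' hw' hw'y
  refine (Relation.ReflTransGen.single (b := (⟨z, hze⟩ : Sph Q c))
    ⟨hzM, edge_of_indep H hw hzM k1 k3 k4⟩).tail ⟨hw', edge_of_indep H hzM hw' l2 ?_ ?_⟩
  · rw [Set.pair_comm]; exact l3
  · rw [Set.pair_comm]; exact l4

/-- an element outside the stabiliser fixing midpoints of everything -/
theorem exists_kick (a : Sph Q c) : ∃ k : Cfsg.Omega F Q, ∃ β : F,
    pol Q a.1 (k • a).1 = β ∧ ((2 : F) = 0 → β = 1) ∧ ((2 : F) ≠ 0 → β = 0) ∧
    ∀ x, ∃ w, Mid a x w ∧ k ∈ stabilizer (Cfsg.Omega F Q) w := by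
  have hQ := H.nd
  by_cases h2 : (2 : F) = 0
  · obtain ⟨y, hy⟩ := (hQ.nondegenerate a.1 (H.ne_zero a)).2
    obtain ⟨p, hp⟩ : ∃ p, p = (pol Q a.1 y)⁻¹ • y := ⟨_, rfl⟩
    have hap : pol Q a.1 p = 1 := by rw [hp, psmul_right hQ, inv_mul_cancel₀ hy]
    obtain ⟨T, hT⟩ : ∃ T, T = Submodule.span F ({a.1, p} : Set (ι → F)) := ⟨_, rfl⟩
    obtain ⟨d, hd, hde⟩ := room H (T := T) (hT ▸ (finrank_pair _ _).trans (by norm_num)) (u := a)
      (hT ▸ Submodule.subset_span (by simp)) (c - Q p)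
    rw [hT, mem_qperp_span] at hd
    obtain ⟨z₀, hz₀⟩ : ∃ z₀, z₀ = p + d := ⟨_, rfl⟩
    have hzc : Q z₀ = c := by rw [hz₀, qadd hQ, hde, pcomm p d, hd p (by simp)]; ring
    have haz : pol Q a.1 z₀ = 1 := by rw [hz₀, padd_right hQ, hap, pcomm a.1 d, hd a.1 (by simp), add_zero]
    obtain ⟨r₁, hr₁, hrv₁⟩ := exists_refl hQ (v := z₀) (by rw [hzc]; exact H.cne)
    obtain ⟨r₂, hr₂, hrv₂⟩ := exists_refl hQ (v := a.1) (by rw [a.2]; exact H.cne)
    obtain ⟨e1, e2⟩ := refl_spn hQ hr₁ hrv₁ (by rw [hzc]; exact H.cne)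
    obtain ⟨f1, f2⟩ := refl_spn hQ hr₂ hrv₂ (by rw [a.2]; exact H.cne)
    obtain ⟨P, R⟩ := spn_mul hQ (iso_le_reflGroup hQ H.hex hr₁) hr₂
    have hmem : (⟨r₁ * r₂, mul_mem hr₁ hr₂⟩ : ↥(Cfsg.isometryGroup F Q)) ∈ Cfsg.Omega F Q :=
      (mem_omega_iff hQ H.hn H.hex _).2 ⟨by
        show spn Q (r₁ * r₂) = 1
        rw [P, e2, f2, hzc, a.2, sqc_mul_self H.cne], by rw [R, e1, f1]⟩
    refine ⟨⟨_, hmem⟩, 1, ?_, fun _ => rfl, fun h => absurd h2 h, fun x => ?_⟩
    · show pol Q a.1 (((r₁ * r₂ : GL ι F) : Matrix ι ι F) *ᵥ a.1) = 1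
      rw [gl_mul_mulVec, hrv₂, H.self_zero h2, mul_zero, zero_smul, sub_zero, hrv₁, psub_right hQ,
        psmul_right hQ, H.self_zero h2, haz, hzc, H.cone h2, inv_one]
      linear_combination (-1 : F) * h2
    · obtain ⟨y', hay', hxy'⟩ := exists_even_y H h2 a x
      obtain ⟨T', hT'⟩ : ∃ T', T' = Submodule.span F ({a.1, z₀, x.1, y'} : Set (ι → F)) := ⟨_, rfl⟩
      obtain ⟨w, hw, hwe⟩ := room_four H h2 (T := T') (hT' ▸ finrank_four _ _ _ _) (u := a) (y := y')
        (hT' ▸ Submodule.subset_span (by simp)) (hT' ▸ Submodule.subset_span (by simp))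
        (by rw [hay']; exact one_ne_zero) c
      rw [hT', mem_qperp_span] at hw
      refine ⟨⟨w, hwe⟩, ⟨by rw [pcomm]; exact hw a.1 (by simp), by rw [pcomm]; exact hw x.1 (by simp),
        not_mem_single_of hQ (by rw [hay']; exact one_ne_zero) (hw y' (by simp)),
        not_mem_single_of hQ (by rw [hxy']; exact one_ne_zero) (hw y' (by simp))⟩, mem_stab.2 ?_⟩
      show ((r₁ * r₂ : GL ι F) : Matrix ι ι F) *ᵥ w = w
      rw [gl_mul_mulVec, refl_fix hQ hrv₂ (hw a.1 (by simp)), refl_fix hQ hrv₁ (hw z₀ (by simp))]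
  · obtain ⟨T, hT⟩ : ∃ T, T = Submodule.span F ({a.1} : Set (ι → F)) := ⟨_, rfl⟩
    obtain ⟨z₀, hz, hzc⟩ := room H (T := T)
      (hT ▸ (finrank_span_singleton (H.ne_zero a)).le.trans (by norm_num)) (u := a)
      (hT ▸ Submodule.subset_span (by simp)) c
    rw [hT, mem_qperp_span] at hz
    have haz : pol Q a.1 z₀ = 0 := by rw [pcomm]; exact hz a.1 (by simp)
    obtain ⟨T₂, hT₂⟩ : ∃ T₂, T₂ = Submodule.span F ({a.1, z₀} : Set (ι → F)) := ⟨_, rfl⟩
    obtain ⟨d', hd', hde'⟩ := room H (T := T₂) (hT₂ ▸ (finrank_pair _ _).trans (by norm_num)) (u := a)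
      (hT₂ ▸ Submodule.subset_span (by simp)) (2 * c)
    rw [hT₂, mem_qperp_span] at hd'
    have h2c : (2 : F) * c ≠ 0 := mul_ne_zero h2 H.cne
    have hQd : Q (a.1 - z₀) = 2 * c := by rw [qsub hQ, haz, a.2, hzc]; ring
    obtain ⟨r₁, hr₁, hrv₁⟩ := exists_refl hQ (v := a.1 - z₀) (by rw [hQd]; exact h2c)
    obtain ⟨r₂, hr₂, hrv₂⟩ := exists_refl hQ (v := d') (by rw [hde']; exact h2c)
    obtain ⟨e1, e2⟩ := refl_spn hQ hr₁ hrv₁ (by rw [hQd]; exact h2c)
    obtain ⟨f1, f2⟩ := refl_spn hQ hr₂ hrv₂ (by rw [hde']; exact h2c)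
    obtain ⟨P, R⟩ := spn_mul hQ (iso_le_reflGroup hQ H.hex hr₁) hr₂
    have hmem : (⟨r₁ * r₂, mul_mem hr₁ hr₂⟩ : ↥(Cfsg.isometryGroup F Q)) ∈ Cfsg.Omega F Q :=
      (mem_omega_iff hQ H.hn H.hex _).2 ⟨by
        show spn Q (r₁ * r₂) = 1
        rw [P, e2, f2, hQd, hde', sqc_mul_self h2c], by rw [R, e1, f1]⟩
    refine ⟨⟨_, hmem⟩, 0, ?_, fun h => absurd h h2, fun _ => rfl, fun x => ?_⟩
    · show pol Q a.1 (((r₁ * r₂ : GL ι F) : Matrix ι ι F) *ᵥ a.1) = 0
      rw [gl_mul_mulVec, refl_fix hQ hrv₂ (by rw [pcomm]; exact hd' a.1 (by simp)),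
        refl_moves hQ (a.2.trans hzc.symm) (by rw [hQd]; exact h2c) hrv₁, haz]
    · obtain ⟨T', hT'⟩ : ∃ T', T' = Submodule.span F ({a.1, z₀, d', x.1} : Set (ι → F)) := ⟨_, rfl⟩
      obtain ⟨P₃, hP₃⟩ : ∃ P₃, P₃ = Submodule.span F ({a.1, z₀, d'} : Set (ι → F)) := ⟨_, rfl⟩
      have hrad : Module.finrank F ↥(qperp hQ T' ⊓ T') + 3 ≤ Module.finrank F T' := by
        have hle : P₃ ≤ T' := by
          rw [hP₃, hT']
          exact Submodule.span_mono (fun t ht => by simp at ht ⊢; tauto)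
        have hd3 : 3 ≤ Module.finrank F P₃ := by
          have hz0 : pol Q z₀ z₀ ≠ 0 := by rw [pself hQ, hzc]; exact h2c
          have hli : LinearIndependent F ![a.1, z₀, d'] := by
            refine li_triple (fun h => hz0 (by rw [h, pzero_left hQ]))
              (not_mem_of_perp hQ (by rw [pself hQ, hde']; exact mul_ne_zero h2 h2c)
                (by rw [pcomm]; exact hd' z₀ (by simp))) (fun h => ?_)
            obtain ⟨α, β, e⟩ := Submodule.mem_span_pair.1 h
            refine H.self_ne h2 a ?_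
            calc pol Q a.1 a.1 = pol Q a.1 (α • z₀ + β • d') := by rw [e]
              _ = 0 := by
                rw [padd_right hQ, psmul_right hQ, psmul_right hQ, haz, pcomm a.1 d', hd' a.1 (by simp)]; ring
          have h := finrank_span_eq_card hli
          rw [Fintype.card_fin] at h
          rw [hP₃]
          refine h.ge.trans (Submodule.finrank_mono (Submodule.span_le.2 ?_))
          rintro _ ⟨i, rfl⟩
          fin_cases i <;> exact Submodule.subset_span (by simp)
        have hdis : (qperp hQ T' ⊓ T') ⊓ P₃ = ⊥ := by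
          rw [eq_bot_iff]
          intro v hv
          obtain ⟨⟨hvK, -⟩, hvP⟩ := hv
          rw [hP₃] at hvP
          obtain ⟨α, y, hy, rfl⟩ := Submodule.mem_span_insert.1 hvP
          obtain ⟨β, γ, rfl⟩ := Submodule.mem_span_pair.1 hy
          have ea := hvK a.1 (hT' ▸ Submodule.subset_span (by simp))
          have ez := hvK z₀ (hT' ▸ Submodule.subset_span (by simp))
          have ed := hvK d' (hT' ▸ Submodule.subset_span (by simp))
          simp only [padd_left hQ, psmul_left hQ, pcomm z₀ a.1, haz, hd' a.1 (by simp), H.self,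
            mul_zero, add_zero] at ea
          simp only [padd_left hQ, psmul_left hQ, haz, hd' z₀ (by simp), pself hQ, hzc,
            mul_zero, zero_add, add_zero] at ez
          simp only [padd_left hQ, psmul_left hQ, pcomm a.1 d', hd' a.1 (by simp), pcomm z₀ d',
            hd' z₀ (by simp), pself hQ, hde', mul_zero, zero_add] at ed
          rw [Submodule.mem_bot, (mul_eq_zero.1 ea).resolve_right h2c, (mul_eq_zero.1 ez).resolve_right h2c,
            (mul_eq_zero.1 ed).resolve_right (mul_ne_zero h2 h2c)]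
          simp
        have h1 := Submodule.finrank_sup_add_finrank_inf_eq (qperp hQ T' ⊓ T') P₃
        rw [hdis, finrank_bot, add_zero] at h1
        have h3 := Submodule.finrank_mono (sup_le inf_le_right hle : (qperp hQ T' ⊓ T') ⊔ P₃ ≤ T')
        omega
      obtain ⟨w, hw, hwe⟩ := exists_value_qperp hQ (T := T') (by
        have := H.seven
        have := hT' ▸ finrank_four (F := F) a.1 z₀ d' x.1
        omega) c
      rw [hT', mem_qperp_span] at hw
      refine ⟨⟨w, hwe⟩, ⟨by rw [pcomm]; exact hw a.1 (by simp), by rw [pcomm]; exact hw x.1 (by simp),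
        not_mem_of_perp hQ (H.self_ne h2 a) (hw a.1 (by simp)),
        not_mem_of_perp hQ (H.self_ne h2 x) (hw x.1 (by simp))⟩, mem_stab.2 ?_⟩
      show ((r₁ * r₂ : GL ι F) : Matrix ι ι F) *ᵥ w = w
      rw [gl_mul_mulVec, refl_fix hQ hrv₂ (hw d' (by simp)),
        refl_fix hQ hrv₁ (by rw [psub_right hQ, hw a.1 (by simp), hw z₀ (by simp), sub_zero])]

/-- the stabiliser and the kick generate -/
theorem closure_top (a : Sph Q c) {k : Cfsg.Omega F Q} {β : F} (hβ : pol Q a.1 (k • a).1 = β)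
    (he : (2 : F) = 0 → β = 1) (ho : (2 : F) ≠ 0 → β = 0) :
    Subgroup.closure ((stabilizer (Cfsg.Omega F Q) a : Set (Cfsg.Omega F Q)) ∪ {k}) = ⊤ := by
  have hQ := H.nd
  obtain ⟨S, hS⟩ : ∃ S, S = Subgroup.closure ((stabilizer (Cfsg.Omega F Q) a : Set (Cfsg.Omega F Q)) ∪ {k}) :=
    ⟨_, rfl⟩
  rw [← hS]
  have hka : k ∈ S := hS ▸ Subgroup.subset_closure (Or.inr rfl)
  have hLa : stabilizer (Cfsg.Omega F Q) a ≤ S := fun g hg => hS ▸ Subgroup.subset_closure (Or.inl hg)
  have hind : ∀ y : Sph Q c, pol Q a.1 y.1 = β → y.1 ∉ Submodule.span F {a.1} := by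
    intro y hy h
    obtain ⟨t, ht⟩ := Submodule.mem_span_singleton.1 h
    rw [← ht, psmul_right hQ, H.self] at hy
    by_cases h2 : (2 : F) = 0
    · rw [he h2, h2, zero_mul, mul_zero] at hy
      exact zero_ne_one hy
    · rw [ho h2] at hy
      rcases mul_eq_zero.1 hy with h0 | h0
      · rw [h0, zero_smul] at ht
        exact H.ne_zero y ht.symm
      · exact mul_ne_zero h2 H.cne h0
  have lat : ∀ y : Sph Q c, pol Q a.1 y.1 = β → ∃ g ∈ S, g • a = y := by
    intro y hy
    obtain ⟨g, hg⟩ := exists_move H (k := 2) (by norm_num) (by norm_num) ![k • a, a] ![y, a]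
      (by convert li_pair (H.ne_zero a) (hind _ hβ) using 1; funext i; fin_cases i <;> rfl)
      (by convert li_pair (H.ne_zero a) (hind y hy) using 1; funext i; fin_cases i <;> rfl)
      (fun i j => by
        fin_cases i <;> fin_cases j <;> simp [H.self, hy, hβ, pcomm y.1 a.1, pcomm (k • a).1 a.1])
    refine ⟨g * k, mul_mem (hLa (MulAction.mem_stabilizer_iff.2 (hg 1))) hka, ?_⟩
    rw [mul_smul]
    exact hg 0
  have orb : ∀ y : Sph Q c, ∃ g ∈ S, g • a = y := by
    intro y
    obtain ⟨q, hq1, hq2⟩ : ∃ q : Sph Q c, pol Q a.1 q.1 = β ∧ pol Q y.1 q.1 = β := by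
      by_cases h2 : (2 : F) = 0
      · obtain ⟨p, hap, hyp⟩ := exists_even_y H h2 a y
        obtain ⟨T, hT⟩ : ∃ T, T = Submodule.span F ({a.1, y.1, p} : Set (ι → F)) := ⟨_, rfl⟩
        obtain ⟨d, hd, hde⟩ := room H (T := T) (hT ▸ finrank_triple _ _ _) (u := a)
          (hT ▸ Submodule.subset_span (by simp)) (c - Q p)
        rw [hT, mem_qperp_span] at hd
        refine ⟨⟨p + d, by rw [qadd hQ, hde, pcomm p d, hd p (by simp)]; ring⟩, ?_, ?_⟩
        · rw [padd_right hQ, hap, pcomm a.1 d, hd a.1 (by simp), add_zero, he h2]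
        · rw [padd_right hQ, hyp, pcomm y.1 d, hd y.1 (by simp), add_zero, he h2]
      · obtain ⟨T, hT⟩ : ∃ T, T = Submodule.span F ({a.1, y.1} : Set (ι → F)) := ⟨_, rfl⟩
        obtain ⟨d, hd, hde⟩ := room H (T := T) (hT ▸ (finrank_pair _ _).trans (by norm_num)) (u := a)
          (hT ▸ Submodule.subset_span (by simp)) c
        rw [hT, mem_qperp_span] at hd
        refine ⟨⟨d, hde⟩, ?_, ?_⟩
        · rw [pcomm, hd a.1 (by simp), ho h2]
        · rw [pcomm, hd y.1 (by simp), ho h2]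
    obtain ⟨g, hg, hga⟩ := lat q hq1
    obtain ⟨h, hh, hha⟩ := lat (g⁻¹ • y) (by
      have e := congrArg Subtype.val hga
      rw [smul_val] at e
      rw [← iso_pol (omv_iso g) a.1 (g⁻¹ • y).1, e, ← smul_val g (g⁻¹ • y), smul_inv_smul, pcomm, hq2])
    exact ⟨g * h, mul_mem hg hh, by rw [mul_smul, hha, smul_inv_smul]⟩
  refine top_le_iff.1 fun x _ => ?_
  obtain ⟨g, hg, hga⟩ := orb (x • a)
  rw [show x = g * (g⁻¹ * x) by rw [mul_inv_cancel_left]]
  refine mul_mem hg (hLa (MulAction.mem_stabilizer_iff.2 ?_))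
  rw [mul_smul, ← hga, inv_smul_smul]

theorem transitive (a x : Sph Q c) : ∃ g : Cfsg.Omega F Q, g • a = x := by
  obtain ⟨g, hg⟩ := exists_move H (k := 1) (by norm_num) (by norm_num) ![a] ![x]
    (li_one (H.ne_zero a)) (li_one (H.ne_zero x))
    (fun i j => by fin_cases i; fin_cases j; simp [H.self])
  exact ⟨g, hg 0⟩

/-- the conditions of the stabiliser induction -/
theorem geo (a : Sph Q c) : StabStep.Geo (Cfsg.Omega F Q) (Mid a) a where
  trans := transitive H a
  perf := stab_perfect H a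
  agree := agree_all H
  exists_mid := exists_mid H a
  move := mid_move H a
  mid_stab g x w hg h := by
    have hgw := mem_stab.1 hg
    refine ⟨h.1, ?_, h.2.2.1, ?_⟩
    · rw [smul_val]
      conv_lhs => arg 3; rw [← hgw]
      rw [iso_pol (omv_iso g)]
      exact h.2.1
    · rw [smul_val, ← hgw]
      exact fun hm => h.2.2.2 (mem_single_of_smul hm)
  mid_base g x w hg h := by
    have hga := mem_stab.1 hg
    refine ⟨?_, ?_, ?_, ?_⟩
    · rw [smul_val]
      conv_lhs => arg 2; rw [← hga]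
      rw [iso_pol (omv_iso g)]
      exact h.1
    · rw [smul_val, smul_val, iso_pol (omv_iso g)]
      exact h.2.1
    · rw [smul_val, ← hga]
      exact fun hm => h.2.2.1 (mem_single_of_smul hm)
    · rw [smul_val, smul_val]
      exact fun hm => h.2.2.2 (mem_single_of_smul hm)
  conn := mid_conn H a
  gen := by
    obtain ⟨k, β, hβ, he, ho, hk⟩ := exists_kick H a
    exact ⟨k, closure_top H a hβ he ho, hk⟩

end CfsgLib.Lie.Mult.Orth
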