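import Cfsg.Agent.Lib.Lie.Mult.Orth.Spin

/-!
# Lifts of the isometries to the regular representation, and the cover with its central elements
-/

set_option autoImplicit false
set_option linter.all false

namespace CfsgLib.Lie.Mult.Orth

open scoped Matrix commutatorElement
open Matrix Cfsg.Geo CfsgLib.Orth CfsgLib.Perm.Asch CfsgLib.Perm.Trans CfsgLib.Perm.Trans.Quad Cliff

universe u

variable {F : Type u} [Field F] [Fintype F] {ι : Type} [Fintype ι] [DecidableEq ι]
variable {Q : (ι → F) → F} {n : ℕ}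

local notation "pol" => QuadraticMap.polar

omit [Fintype F] in
theorem eneg_mul (x y : Module.End F (Sp n F)) : -x * y = -(x * y) :=
  LinearMap.ext fun f => rfl

omit [Fintype F] in
theorem emul_neg (x y : Module.End F (Sp n F)) : x * -y = -(x * y) :=
  LinearMap.ext fun f => map_neg x _

omit [Fintype F] in
theorem eneg_smul (r : F) (x : Module.End F (Sp n F)) : -r • x = -(r • x) :=
  LinearMap.ext fun f => _root_.neg_smul r (x f)

omit [Fintype F] in
theorem eneg_one_smul (x : Module.End F (Sp n F)) : (-1 : F) • x = -x :=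
  LinearMap.ext fun f => _root_.neg_one_smul F (x f)

/-- an orthogonal basis of anisotropic vectors -/
structure OBasis (Q : (ι → F) → F) (b : Module.Basis (Fin n) F (ι → F)) (d : Fin n → F) : Prop where
  nd : IsNondegenerateQuadraticForm Q
  two : (2 : F) ≠ 0
  val : ∀ i, Q (b i) = d i
  orth : ∀ i j, i ≠ j → pol Q (b i) (b j) = 0
  ne : ∀ i, d i ≠ 0

/-- the Clifford map -/
noncomputable def gam (b : Module.Basis (Fin n) F (ι → F)) (d : Fin n → F) :
    (ι → F) →ₗ[F] Module.End F (Sp n F) := b.constr F (Lop d)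

theorem gam_basis (b : Module.Basis (Fin n) F (ι → F)) (d : Fin n → F) (i : Fin n) : gam b d (b i) = Lop d i :=
  b.constr_basis F _ i

theorem lin_ind (b : Module.Basis (Fin n) F (ι → F)) {P : (ι → F) → Prop} (hb : ∀ i, P (b i)) (h0 : P 0)
    (ha : ∀ x y, P x → P y → P (x + y)) (hs : ∀ (r : F) x, P x → P (r • x)) (w : ι → F) : P w := by
  have hw : w ∈ Submodule.span F (Set.range b) := by rw [b.span_eq]; exact Submodule.mem_top
  induction hw using Submodule.span_induction with
  | mem x hx => obtain ⟨i, rfl⟩ := hx; exact hb i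
  | zero => exact h0
  | add x y _ _ hx hy => exact ha x y hx hy
  | smul r x _ hx => exact hs r x hx

variable {b : Module.Basis (Fin n) F (ι → F)} {d : Fin n → F} (B : OBasis Q b d)
include B

theorem gam_anti (w w' : ι → F) :
    gam b d w * gam b d w' + gam b d w' * gam b d w = pol Q w w' • (1 : Module.End F (Sp n F)) := by
  refine lin_ind b (P := fun w => gam b d w * gam b d w' + gam b d w' * gam b d w =
    pol Q w w' • (1 : Module.End F (Sp n F))) (fun i => ?_) ?_ (fun x y hx hy => ?_) (fun r x hx => ?_) w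
  · refine lin_ind b (P := fun w' => gam b d (b i) * gam b d w' + gam b d w' * gam b d (b i) =
      pol Q (b i) w' • (1 : Module.End F (Sp n F))) (fun j => ?_) ?_ (fun x y hx hy => ?_) (fun r x hx => ?_) w'
    · rw [gam_basis, gam_basis]
      by_cases e : i = j
      · subst e
        rw [Lop_sq, pself B.nd, B.val, ← add_smul, two_mul]
      · rw [Lop_anti d e, neg_add_cancel, B.orth i j e, zero_smul]
    · rw [map_zero, mul_zero, zero_mul, add_zero, pzero_right B.nd, zero_smul]
    · rw [map_add, mul_add, add_mul, padd_right B.nd, add_smul, ← hx, ← hy]; abel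
    · rw [map_smul, mul_smul_comm, smul_mul_assoc, ← smul_add, hx, psmul_right B.nd, smul_smul]
  · rw [map_zero, zero_mul, mul_zero, add_zero, pzero_left B.nd, zero_smul]
  · rw [map_add, add_mul, mul_add, padd_left B.nd, add_smul, ← hx, ← hy]; abel
  · rw [map_smul, smul_mul_assoc, mul_smul_comm, ← smul_add, hx, psmul_left B.nd, smul_smul]

theorem gam_sq (w : ι → F) : gam b d w * gam b d w = Q w • (1 : Module.End F (Sp n F)) := by
  have h := gam_anti B w w
  rw [pself B.nd, ← two_smul F, mul_smul] at h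
  exact smul_right_injective _ B.two h

theorem gam_injective : Function.Injective (gam b d) := by
  refine (injective_iff_map_eq_zero _).2 fun w hw => ?_
  by_contra hne
  obtain ⟨y, hy⟩ := (B.nd.nondegenerate w hne).2
  have h := gam_anti B w y
  rw [hw, zero_mul, mul_zero, add_zero] at h
  have h' := congrFun (LinearMap.congr_fun h (vac n F)) fun _ => false
  simp [vac] at h'
  exact hy h'.symm

omit B in
theorem gam_Rop (j : Fin n) (w : ι → F) : gam b d w * Rop d j = Rop d j * gam b d w := by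
  refine lin_ind b (P := fun w => gam b d w * Rop d j = Rop d j * gam b d w)
    (fun i => by rw [gam_basis]; exact Lop_Rop d i j) (by rw [map_zero, zero_mul, mul_zero])
    (fun x y hx hy => by rw [map_add, add_mul, mul_add, hx, hy])
    (fun r x hx => by rw [map_smul, smul_mul_assoc, mul_smul_comm, hx]) w

omit B in
theorem Pop_gam (w : ι → F) : Pop * gam b d w = -(gam b d w * Pop) := by
  refine lin_ind b (P := fun w => Pop * gam b d w = -(gam b d w * Pop))
    (fun i => by rw [gam_basis]; exact Pop_Lop d i) (by rw [map_zero, zero_mul, mul_zero, neg_zero])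
    (fun x y hx hy => by rw [map_add, add_mul, mul_add, hx, hy]; abel)
    (fun r x hx => by rw [map_smul, smul_mul_assoc, mul_smul_comm, hx, smul_neg]) w

theorem gam_refl {v : ι → F} (hv : Q v ≠ 0) {r : GL ι F} (hr : IsRefl Q v r) (w : ι → F) :
    gam b d v * gam b d w = -(gam b d ((r : Matrix ι ι F) *ᵥ w) * gam b d v) := by
  have h := gam_anti B w v
  rw [hr, map_sub, map_smul, sub_mul, smul_mul_assoc, gam_sq B, smul_smul, mul_comm (Q v)⁻¹, mul_assoc,
    inv_mul_cancel₀ hv, mul_one, ← h]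
  abel

/-- operators intertwining an isometry, with the sign of its determinant -/
def Lifts (b : Module.Basis (Fin n) F (ι → F)) (d : Fin n → F) (g : GL ι F) : Prop :=
  ∃ x : (Module.End F (Sp n F))ˣ,
    (∀ w, (x : Module.End F (Sp n F)) * gam b d w = gam b d ((g : Matrix ι ι F) *ᵥ w) * x) ∧
    (∀ j, (x : Module.End F (Sp n F)) * Rop d j = (g : Matrix ι ι F).det • (Rop d j * x)) ∧
    (x : Module.End F (Sp n F)) * Pop = (g : Matrix ι ι F).det • ((Pop : Module.End F (Sp n F)) * (x : Module.End F (Sp n F)))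

omit B in
theorem lifts_one : Lifts b d (1 : GL ι F) :=
  ⟨1, fun w => by simp, fun j => by simp, by simp⟩

omit B in
theorem lifts_mul {g h : GL ι F} (hg : Lifts b d g) (hh : Lifts b d h) : Lifts b d (g * h) := by
  obtain ⟨x, x1, x2, x3⟩ := hg
  obtain ⟨y, y1, y2, y3⟩ := hh
  refine ⟨x * y, fun w => ?_, fun j => ?_, ?_⟩
  · rw [Units.val_mul, mul_assoc, y1, ← mul_assoc, x1, gl_mul_mulVec, mul_assoc]
  · rw [Units.val_mul, mul_assoc, y2, mul_smul_comm, ← mul_assoc, x2, smul_mul_assoc, smul_smul, Units.val_mul,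
      Matrix.det_mul, mul_comm (h : Matrix ι ι F).det, mul_assoc]
  · rw [Units.val_mul, mul_assoc, y3, mul_smul_comm, ← mul_assoc, x3, smul_mul_assoc, smul_smul, Units.val_mul,
      Matrix.det_mul, mul_comm (h : Matrix ι ι F).det, mul_assoc]

theorem lifts_refl {v : ι → F} (hv : Q v ≠ 0) {r : GL ι F} (hr : IsRefl Q v r) : Lifts b d r := by
  have hsq : gam b d v * Pop * (gam b d v * Pop) = -(Q v) • (1 : Module.End F (Sp n F)) := by
    rw [mul_assoc, ← mul_assoc Pop, Pop_gam, eneg_mul, mul_assoc _ Pop, Pop_sq, mul_one, emul_neg, gam_sq B, eneg_smul]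
  have hinv : gam b d v * Pop * ((-(Q v))⁻¹ • (gam b d v * Pop)) = 1 := by
    rw [mul_smul_comm, hsq, smul_smul, inv_mul_cancel₀ (neg_ne_zero.2 hv), one_smul]
  have hinv' : ((-(Q v))⁻¹ • (gam b d v * Pop)) * (gam b d v * Pop) = 1 := by
    rw [smul_mul_assoc, hsq, smul_smul, inv_mul_cancel₀ (neg_ne_zero.2 hv), one_smul]
  refine ⟨⟨gam b d v * Pop, (-(Q v))⁻¹ • (gam b d v * Pop), hinv, hinv'⟩, fun w => ?_, fun j => ?_, ?_⟩
  · show gam b d v * Pop * gam b d w = _
    rw [mul_assoc, Pop_gam, emul_neg, ← mul_assoc, gam_refl B hv hr, eneg_mul, neg_neg, mul_assoc]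
  · show gam b d v * Pop * Rop d j = (r : Matrix ι ι F).det • (Rop d j * (gam b d v * Pop))
    rw [det_refl B.nd hr hv, mul_assoc, Pop_Rop, emul_neg, ← mul_assoc, gam_Rop, eneg_one_smul, mul_assoc]
  · show gam b d v * Pop * Pop = (r : Matrix ι ι F).det • (Pop * (gam b d v * Pop))
    rw [det_refl B.nd hr hv, ← mul_assoc Pop, Pop_gam, eneg_one_smul, eneg_mul, neg_neg]

theorem lifts_iso {g : GL ι F} (hg : g ∈ Cfsg.isometryGroup F Q) : Lifts b d g := by
  have h := iso_le_reflGroup B.nd (hex_of_two B.two) hg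
  clear hg
  induction h using Subgroup.closure_induction with
  | mem r hr =>
    obtain ⟨-, v, hv, hrv⟩ := hr
    exact lifts_refl B hv hrv
  | one => exact lifts_one
  | mul a c _ _ ha hc => exact lifts_mul ha hc
  | inv a _ ha =>
    have e : a⁻¹ = a ^ (orderOf a - 1) := by
      refine inv_eq_of_mul_eq_one_right ?_
      rw [← pow_succ', Nat.sub_add_cancel (orderOf_pos a), pow_orderOf_eq_one]
    rw [e]
    have : ∀ k : ℕ, Lifts b d (a ^ k) := fun k => by
      induction k with
      | zero => rw [pow_zero]; exact lifts_one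
      | succ k ih => rw [pow_succ]; exact lifts_mul ih ha
    exact this _

/-- the intertwining group -/
def spinPre (b : Module.Basis (Fin n) F (ι → F)) (d : Fin n → F) (Q : (ι → F) → F) :
    Subgroup ((Module.End F (Sp n F))ˣ × ↥(Cfsg.Omega F Q)) where
  carrier := {p | (∀ w, (p.1 : Module.End F (Sp n F)) * gam b d w =
      gam b d ((omv p.2 : Matrix ι ι F) *ᵥ w) * p.1) ∧
    (∀ j, Commute (p.1 : Module.End F (Sp n F)) (Rop d j)) ∧ Commute (p.1 : Module.End F (Sp n F)) (Pop : Module.End F (Sp n F))}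
  one_mem' := ⟨fun w => by simp [omv], fun j => Commute.one_left _, Commute.one_left _⟩
  mul_mem' {p q} hp hq := by
    refine ⟨fun w => ?_, fun j => (hp.2.1 j).mul_left (hq.2.1 j), hp.2.2.mul_left hq.2.2⟩
    show (p.1 : Module.End F (Sp n F)) * q.1 * gam b d w =
      gam b d (((omv p.2 * omv q.2 : GL ι F) : Matrix ι ι F) *ᵥ w) * ((p.1 : Module.End F (Sp n F)) * q.1)
    rw [mul_assoc, hq.1, ← mul_assoc, hp.1, gl_mul_mulVec, mul_assoc]
  inv_mem' {p} hp := by
    refine ⟨fun w => ?_, fun j => (hp.2.1 j).units_inv_left, hp.2.2.units_inv_left⟩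
    have h := hp.1 ((((omv p.2)⁻¹ : GL ι F) : Matrix ι ι F) *ᵥ w)
    rw [← gl_mul_mulVec, mul_inv_cancel, Units.val_one, Matrix.one_mulVec] at h
    show ((p.1⁻¹ : (Module.End F (Sp n F))ˣ) : Module.End F (Sp n F)) * gam b d w =
      gam b d ((((omv p.2)⁻¹ : GL ι F) : Matrix ι ι F) *ᵥ w) * ((p.1⁻¹ : (Module.End F (Sp n F))ˣ) : _)
    rw [Units.eq_mul_inv_iff_mul_eq, mul_assoc, ← h, ← mul_assoc, Units.inv_mul, one_mul]

omit B in
theorem mem_spinPre {p : (Module.End F (Sp n F))ˣ × ↥(Cfsg.Omega F Q)} :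
    p ∈ spinPre b d Q ↔ (∀ w, (p.1 : Module.End F (Sp n F)) * gam b d w =
      gam b d ((omv p.2 : Matrix ι ι F) *ᵥ w) * p.1) ∧
    (∀ j, Commute (p.1 : Module.End F (Sp n F)) (Rop d j)) ∧ Commute (p.1 : Module.End F (Sp n F)) (Pop : Module.End F (Sp n F)) := Iff.rfl

/-- the projection -/
def spinPi (b : Module.Basis (Fin n) F (ι → F)) (d : Fin n → F) (Q : (ι → F) → F) :
    ↥(spinPre b d Q) →* ↥(Cfsg.Omega F Q) :=
  (MonoidHom.snd _ _).comp (spinPre b d Q).subtype

theorem spinPi_surjective (hn : 2 ≤ Fintype.card ι) : Function.Surjective (spinPi b d Q) := fun g => by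
  obtain ⟨x, x1, x2, x3⟩ := lifts_iso B (omv_iso g)
  have hd : (omv g : Matrix ι ι F).det = 1 :=
    (det_eq_one_iff B.nd B.two (omv_iso g)).2 ((mem_omega_iff B.nd hn (hex_of_two B.two) g.1).1 g.2).2
  refine ⟨⟨(x, g), x1, fun j => ?_, ?_⟩, rfl⟩
  · show _ = _
    rw [x2, hd, one_smul]
  · show _ = _
    rw [x3, hd, one_smul]

theorem spinPi_ker : (spinPi b d Q).ker ≤ Subgroup.center ↥(spinPre b d Q) := by
  rintro ⟨⟨x, g⟩, hx⟩ (hg : g = 1)
  subst hg
  obtain ⟨h1, h2, h3⟩ := hx
  obtain ⟨s, hs⟩ := scalar_of_commute d B.two B.ne (x := (x : Module.End F (Sp n F))) (fun i => h2 i)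
    (fun i => by
      have h := h1 (b i)
      rwa [show (omv (1 : Cfsg.Omega F Q) : Matrix ι ι F) *ᵥ b i = b i by simp [omv], gam_basis] at h) h3
  refine Subgroup.mem_center_iff.2 fun y => Subtype.ext (Prod.ext (Units.ext ?_) ?_)
  · show (y.1.1 : Module.End F (Sp n F)) * x = x * y.1.1
    rw [hs, mul_smul_comm, smul_mul_assoc, mul_one, one_mul]
  · show y.1.2 * 1 = 1 * y.1.2
    rw [mul_one, one_mul]

end CfsgLib.Lie.Mult.Orth
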