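import Cfsg.Agent.Lib.Lie.Mult.Orth.Geom
import Cfsg.Agent.Lib.Perm.Trans.QuadSimple
import Mathlib.LinearAlgebra.Projection

/-!
# `Omega` of a nondegenerate subspace as a pointwise stabiliser

An isometry of a nondegenerate subspace, extended by the identity on the perpendicular, keeps its spinor norm
and parity.
-/

set_option autoImplicit false
set_option linter.all false

namespace CfsgLib.Lie.Mult.Orth

open scoped Matrix commutatorElement
open Matrix Cfsg.Geo CfsgLib.Orth CfsgLib.Perm.Asch CfsgLib.Perm.Trans CfsgLib.Perm.Trans.Quad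

variable {ι : Type} [Fintype ι] [DecidableEq ι] {F : Type*} [Field F] [Fintype F]
variable {Q : (ι → F) → F}

local notation "pol" => QuadraticMap.polar

/-- the pointwise stabiliser in `Omega` -/
def fixer (Q : (ι → F) → F) (S : Set (ι → F)) : Subgroup (Cfsg.Omega F Q) where
  carrier := {g | ∀ v ∈ S, (omv g : Matrix ι ι F) *ᵥ v = v}
  one_mem' v hv := by show ((1 : GL ι F) : Matrix ι ι F) *ᵥ v = v; rw [Units.val_one, one_mulVec]
  mul_mem' {g h} hg hh v hv := by
    show ((omv g * omv h : GL ι F) : Matrix ι ι F) *ᵥ v = v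
    rw [gl_mul_mulVec, hh v hv, hg v hv]
  inv_mem' {g} hg v hv := by
    show (((omv g)⁻¹ : GL ι F) : Matrix ι ι F) *ᵥ v = v
    conv_lhs => rw [← hg v hv]
    rw [← gl_mul_mulVec, inv_mul_cancel, Units.val_one, one_mulVec]

theorem mem_fixer {S : Set (ι → F)} {g : Cfsg.Omega F Q} :
    g ∈ fixer Q S ↔ ∀ v ∈ S, (omv g : Matrix ι ι F) *ᵥ v = v := Iff.rfl

theorem fixer_anti {S T : Set (ι → F)} (h : S ⊆ T) : fixer Q T ≤ fixer Q S := fun _ hg v hv => hg v (h hv)

theorem fixer_span (S : Set (ι → F)) : fixer Q (Submodule.span F S : Set (ι → F)) = fixer Q S := by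
  refine le_antisymm (fixer_anti Submodule.subset_span) fun g hg v hv => ?_
  induction hv using Submodule.span_induction with
  | mem v hv => exact hg v hv
  | zero => exact mulVec_zero _
  | add x y _ _ hx hy => rw [mulVec_add, hx, hy]
  | smul c x _ hx => rw [mulVec_smul, hx]

variable (hQ : IsNondegenerateQuadraticForm Q)
variable {κ : Type} [Fintype κ] [DecidableEq κ] (e : (κ → F) →ₗ[F] (ι → F)) (he : Function.Injective e)
  (hW : NdOn Q (LinearMap.range e))

/-- the form on the subspace -/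
abbrev pullQ (Q : (ι → F) → F) (e : (κ → F) →ₗ[F] (ι → F)) (v : κ → F) : F := Q (e v)

theorem pull_polar (x y : κ → F) : pol (pullQ Q e) x y = pol Q (e x) (e y) := by
  simp only [QuadraticMap.polar, pullQ, map_add]

include hQ hW he

theorem pull_nd : IsNondegenerateQuadraticForm (pullQ Q e) where
  smul c v := by show Q (e (c • v)) = _; rw [map_smul, hQ.smul]
  polar_bilinear := by
    constructor
    · intro x y z; simp only [pull_polar, map_add, padd_left hQ]
    · intro c x z; simp only [pull_polar, map_smul, psmul_left hQ]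
    · intro x y z; simp only [pull_polar, map_add, padd_right hQ]
    · intro c x z; simp only [pull_polar, map_smul, psmul_right hQ]
  nondegenerate := by
    intro v hv
    obtain ⟨⟨_, ⟨x, rfl⟩, hx⟩, ⟨_, ⟨y, rfl⟩, hy⟩⟩ :=
      hW (e v) ⟨v, rfl⟩ (fun h => hv (he (h.trans (map_zero e).symm)))
    exact ⟨⟨x, by rw [pull_polar]; exact hx⟩, ⟨y, by rw [pull_polar]; exact hy⟩⟩

theorem exists_proj : ∃ π : (ι → F) →ₗ[F] (κ → F), (∀ y, π (e y) = y) ∧
    (∀ x ∈ qperp hQ (LinearMap.range e), π x = 0) ∧ ∀ x, x - e (π x) ∈ qperp hQ (LinearMap.range e) := by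
  have hinj : LinearMap.range e ⊓ qperp hQ (LinearMap.range e) = ⊥ := by
    rw [eq_bot_iff]
    rintro v ⟨hvP, hv'⟩
    by_contra hne
    obtain ⟨y, hy, hyv⟩ := (hW v hvP hne).2
    exact hyv (hv' y hy)
  have hsup : LinearMap.range e ⊔ qperp hQ (LinearMap.range e) = ⊤ := by
    rw [eq_top_iff]
    rintro x -
    obtain ⟨p, hp, hxp⟩ := qperp_decomp hQ hW x
    exact Submodule.mem_sup.2 ⟨p, hp, _, hxp, add_sub_cancel p x⟩
  have hc : IsCompl (LinearMap.range e) (qperp hQ (LinearMap.range e)) :=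
    ⟨disjoint_iff.2 hinj, codisjoint_iff.2 hsup⟩
  obtain ⟨P, hP⟩ : ∃ P, P = Submodule.projectionOnto (LinearMap.range e) _ hc := ⟨_, rfl⟩
  refine ⟨(LinearEquiv.ofInjective e he).symm.toLinearMap.comp P, fun y => ?_, fun x hx => ?_, fun x => ?_⟩
  · show (LinearEquiv.ofInjective e he).symm (P (e y)) = y
    rw [hP, show e y = ((LinearEquiv.ofInjective e he y : LinearMap.range e) : ι → F) from rfl,
      Submodule.projectionOnto_apply_left, LinearEquiv.symm_apply_apply]
  · show (LinearEquiv.ofInjective e he).symm (P x) = 0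
    rw [hP, Submodule.projectionOnto_apply_right hc ⟨x, hx⟩, map_zero]
  · have h : e ((LinearEquiv.ofInjective e he).symm (P x)) = (P x : ι → F) :=
      congrArg Subtype.val ((LinearEquiv.ofInjective e he).apply_symm_apply (P x))
    show x - e ((LinearEquiv.ofInjective e he).symm (P x)) ∈ _
    rw [h]
    obtain ⟨p, hp, hxp⟩ := qperp_decomp hQ hW x
    have : P x = ⟨p, hp⟩ := by
      rw [hP]
      conv_lhs => rw [show x = p + (x - p) from (add_sub_cancel p x).symm, map_add,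
        Submodule.projectionOnto_apply_right hc ⟨_, hxp⟩, add_zero]
      exact Submodule.projectionOnto_apply_left hc ⟨p, hp⟩
    rw [this]
    exact hxp

/-- `Omega` of the subspace is the pointwise stabiliser of its perpendicular -/
theorem exists_omega_equiv (hn : 2 ≤ Fintype.card κ) (hn' : 2 ≤ Fintype.card ι)
    (hex : Fintype.card F ≠ 2 ∨ Fintype.card ι ≠ 4) (hex' : Fintype.card F ≠ 2 ∨ Fintype.card κ ≠ 4) :
    ∃ φ : ↥(fixer Q (qperp hQ (LinearMap.range e) : Set (ι → F))) ≃* ↥(Cfsg.Omega F (pullQ Q e)),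
      ∀ g y, (omv g.1 : Matrix ι ι F) *ᵥ e y = e ((omv (φ g) : Matrix κ κ F) *ᵥ y) := by
  obtain ⟨π, hπe, hπ0, hπx⟩ := exists_proj hQ e he hW
  have hQ' := pull_nd hQ e he hW
  -- the action of a stabiliser element on the subspace
  have hpres : ∀ g ∈ fixer Q (qperp hQ (LinearMap.range e) : Set (ι → F)), ∀ y,
      e (π ((omv g : Matrix ι ι F) *ᵥ e y)) = (omv g : Matrix ι ι F) *ᵥ e y := by
    intro g hg y
    have h : (omv g : Matrix ι ι F) *ᵥ e y ∈ qperp hQ (qperp hQ (LinearMap.range e)) := fun p hp => by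
      rw [← hg p hp, iso_pol (omv_iso g), pcomm]
      exact hp _ ⟨y, rfl⟩
    rw [qperp_qperp hQ hW] at h
    obtain ⟨z, hz⟩ := h
    rw [← hz, hπe]
  have ext : ∀ h : GL κ F, h ∈ Cfsg.isometryGroup F (pullQ Q e) → ∃ g : GL ι F,
      g ∈ Cfsg.isometryGroup F Q ∧ (∀ y, (g : Matrix ι ι F) *ᵥ e y = e ((h : Matrix κ κ F) *ᵥ y)) ∧
      ∀ x ∈ qperp hQ (LinearMap.range e), (g : Matrix ι ι F) *ᵥ x = x := by
    intro h hh
    obtain ⟨B, hB, hBn⟩ := exists_bundled hQ
    let T : (ι → F) →ₗ[F] (ι → F) :=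
      LinearMap.id - e.comp π + e.comp ((Matrix.mulVecLin (h : Matrix κ κ F)).comp π)
    have hT : ∀ v, T v = (v - e (π v)) + e ((h : Matrix κ κ F) *ᵥ π v) := fun v => rfl
    obtain ⟨G, hG, hGT⟩ := Witt.exists_equiv B T (fun v => by
      rw [hB, hT, qadd hQ, hπx v _ ⟨_, rfl⟩, add_zero,
        show Q (e ((h : Matrix κ κ F) *ᵥ π v)) = Q (e (π v)) from mem_iso.1 hh (π v)]
      conv_rhs => rw [show v = (v - e (π v)) + e (π v) from (sub_add_cancel _ _).symm, qadd hQ, hπx v _ ⟨_, rfl⟩,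
        add_zero]) hBn
    obtain ⟨g, hg, hgG⟩ := exists_iso_of_equiv (Q := Q) G (by rw [← hB]; exact hG)
    exact ⟨g, hg, fun y => by rw [hgG, hGT, hT, hπe, sub_self, zero_add],
      fun x hx => by rw [hgG, hGT, hT, hπ0 x hx, mulVec_zero, map_zero, add_zero, sub_zero]⟩
  -- spinor norm and parity
  have inv : ∀ (g : GL ι F) (h : GL κ F), g ∈ Cfsg.isometryGroup F Q → h ∈ Cfsg.isometryGroup F (pullQ Q e) →
      (∀ y, (g : Matrix ι ι F) *ᵥ e y = e ((h : Matrix κ κ F) *ᵥ y)) →
      (∀ x ∈ qperp hQ (LinearMap.range e), (g : Matrix ι ι F) *ᵥ x = x) →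
      spn Q g = spn (pullQ Q e) h ∧ wrk g = wrk h := by
    intro g h hg hh hgy hgx
    obtain ⟨w, hli, hsp⟩ := exists_frame h
    obtain ⟨-, hs⟩ := spn_eq_det hQ' hh hli hsp
    have hd : ∀ y, disp g (e y) = e (disp h y) := fun y => by rw [disp_apply, disp_apply, hgy, map_sub]
    have hdx : ∀ x, disp g x = e (disp h (π x)) := fun x => by
      have hk : disp g (x - e (π x)) = 0 := by rw [disp_apply, hgx _ (hπx x), sub_self]
      rw [map_sub, sub_eq_zero, hd] at hk
      exact hk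
    obtain ⟨h1, h2⟩ := spn_eq_det hQ hg (k := wrk h) (w := fun i => e (w i))
      (by simp only [hd]; exact hli.map' e (LinearMap.ker_eq_bot.2 he))
      (by
        rintro _ ⟨x, rfl⟩
        rw [hdx]
        have := Submodule.mem_map_of_mem (f := e) (hsp ⟨π x, rfl⟩)
        rw [Submodule.map_span, ← Set.range_comp] at this
        simpa only [hd, Function.comp_def] using this)
    refine ⟨?_, h1⟩
    rw [h2, hs]
    congr 2
    ext i j
    simp only [wallMat, Matrix.of_apply, pull_polar, hd]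
  have hmem : ∀ g : ↥(fixer Q (qperp hQ (LinearMap.range e) : Set (ι → F))), ∃ h : Cfsg.Omega F (pullQ Q e),
      ∀ y, (omv g.1 : Matrix ι ι F) *ᵥ e y = e ((omv h : Matrix κ κ F) *ᵥ y) := by
    intro g
    obtain ⟨B, hB, hBn⟩ := exists_bundled hQ'
    let T : (κ → F) →ₗ[F] (κ → F) := π.comp ((Matrix.mulVecLin (omv g.1 : Matrix ι ι F)).comp e)
    have hT : ∀ v, T v = π ((omv g.1 : Matrix ι ι F) *ᵥ e v) := fun v => rfl
    obtain ⟨G, hG, hGT⟩ := Witt.exists_equiv B T (fun v => by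
      rw [hB]
      show Q (e (π ((omv g.1 : Matrix ι ι F) *ᵥ e v))) = Q (e v)
      rw [hpres g.1 g.2 v]
      exact mem_iso.1 (omv_iso g.1) _) hBn
    obtain ⟨h, hh, hhG⟩ := exists_iso_of_equiv (Q := pullQ Q e) G (by rw [← hB]; exact hG)
    have hy : ∀ y, (omv g.1 : Matrix ι ι F) *ᵥ e y = e ((h : Matrix κ κ F) *ᵥ y) := fun y => by
      rw [hhG, hGT, hT, hpres g.1 g.2 y]
    obtain ⟨i1, i2⟩ := inv _ h (omv_iso g.1) hh hy g.2
    obtain ⟨o1, o2⟩ := (mem_omega_iff hQ hn' hex g.1.1).1 g.1.2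
    exact ⟨⟨⟨h, hh⟩, (mem_omega_iff hQ' hn hex' _).2 ⟨by rw [← i1]; exact o1, by rw [← i2]; exact o2⟩⟩, hy⟩
  choose f hf using hmem
  have uniq : ∀ a b : Cfsg.Omega F (pullQ Q e),
      (∀ y, e ((omv a : Matrix κ κ F) *ᵥ y) = e ((omv b : Matrix κ κ F) *ᵥ y)) → a = b :=
    fun a b h => omv_injective (gl_ext_vec fun y => he (h y))
  let Φ : ↥(fixer Q (qperp hQ (LinearMap.range e) : Set (ι → F))) →* ↥(Cfsg.Omega F (pullQ Q e)) :=
    MonoidHom.mk' f fun a b => uniq _ _ fun y => by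
      rw [← hf]
      show ((omv a.1 * omv b.1 : GL ι F) : Matrix ι ι F) *ᵥ e y = e (((omv (f a) * omv (f b) : GL κ F) : Matrix κ κ F) *ᵥ y)
      rw [gl_mul_mulVec, gl_mul_mulVec, hf, hf]
  have hinj : Function.Injective Φ := fun a b h => by
    refine Subtype.ext (omv_injective (gl_ext_vec fun x => ?_))
    show (omv a.1 : Matrix ι ι F) *ᵥ x = (omv b.1 : Matrix ι ι F) *ᵥ x
    have h' : f a = f b := h
    rw [show x = (x - e (π x)) + e (π x) from (sub_add_cancel _ _).symm, mulVec_add, mulVec_add,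
      a.2 _ (hπx x), b.2 _ (hπx x), hf, hf, h']
  have hsurj : Function.Surjective Φ := fun h => by
    obtain ⟨g, hg, hgy, hgx⟩ := ext _ (omv_iso h)
    obtain ⟨i1, i2⟩ := inv g _ hg (omv_iso h) hgy hgx
    obtain ⟨o1, o2⟩ := (mem_omega_iff hQ' hn hex' h.1).1 h.2
    refine ⟨⟨⟨⟨g, hg⟩, (mem_omega_iff hQ hn' hex _).2 ⟨by rw [i1]; exact o1, by rw [i2]; exact o2⟩⟩, hgx⟩,
      uniq _ _ fun y => ?_⟩
    show e ((omv (f _) : Matrix κ κ F) *ᵥ y) = _
    rw [← hf]
    exact hgy y
  exact ⟨MulEquiv.ofBijective Φ ⟨hinj, hsurj⟩, fun g y => hf g y⟩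

omit hQ hW he in
/-- coordinates on a subspace -/
theorem exists_coords (W : Submodule F (ι → F)) : ∃ e : (Fin (Module.finrank F W) → F) →ₗ[F] (ι → F),
    Function.Injective e ∧ LinearMap.range e = W := by
  refine ⟨W.subtype.comp (Module.finBasis F W).equivFun.symm.toLinearMap,
    W.injective_subtype.comp (Module.finBasis F W).equivFun.symm.injective, ?_⟩
  rw [LinearMap.range_comp, LinearEquiv.range, Submodule.map_top, Submodule.range_subtype]

omit hW he in
/-- a pointwise stabiliser with large nondegenerate perpendicular is perfect -/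
theorem fixer_perfect {P : Submodule F (ι → F)} (hP : NdOn Q P) (hd : Module.finrank F P + 5 ≤ Fintype.card ι) :
    fixer Q (P : Set (ι → F)) ≤ ⁅fixer Q (P : Set (ι → F)), fixer Q (P : Set (ι → F))⁆ := by
  obtain ⟨e, he, hr⟩ := exists_coords (qperp hQ P)
  have hnd : NdOn Q (LinearMap.range e) := by rw [hr]; exact qperp_nd hQ hP
  have hdim : 5 ≤ Module.finrank F (qperp hQ P) := by
    have := finrank_qperp hQ P
    omega
  have hc : 5 ≤ Fintype.card (Fin (Module.finrank F (qperp hQ P))) := by rwa [Fintype.card_fin]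
  obtain ⟨φ, -⟩ := exists_omega_equiv hQ e he hnd (by omega) (by omega) (Or.inr (by omega)) (Or.inr (by omega))
  have hperf := omega_perfect (pull_nd hQ e he hnd) hc
  have hPP : qperp hQ (LinearMap.range e) = P := by rw [hr, qperp_qperp hQ hP]
  rw [hPP] at φ
  intro g hg
  have h1 : (⟨g, hg⟩ : ↥(fixer Q (P : Set (ι → F)))) ∈ commutator ↥(fixer Q (P : Set (ι → F))) := by
    have h2 : φ ⟨g, hg⟩ ∈ (commutator ↥(fixer Q (P : Set (ι → F)))).map φ.toMonoidHom := by
      rw [commutator_def, Subgroup.map_commutator, Subgroup.map_top_of_surjective _ φ.surjective, ← commutator_def,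
        hperf]
      exact Subgroup.mem_top _
    obtain ⟨x, hx, hxe⟩ := h2
    rwa [← φ.injective hxe]
  have h3 : g ∈ (commutator ↥(fixer Q (P : Set (ι → F)))).map (fixer Q (P : Set (ι → F))).subtype :=
    ⟨_, h1, rfl⟩
  rwa [commutator_def, Subgroup.map_commutator, ← MonoidHom.range_eq_map, Subgroup.range_subtype] at h3

end CfsgLib.Lie.Mult.Orth
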