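import Cfsg.Agent.Lib.Lie.Mult.Orth.EvenStab
import Cfsg.Agent.Lib.Lie.Mult.StabStep

/-!
# `Omega` acting on the vectors of one value

The conditions under which the stabiliser induction is used, the values taken on perpendiculars in that range,
and the perfect stabilisers.
-/

set_option autoImplicit false
set_option linter.all false

namespace CfsgLib.Lie.Mult.Orth

open scoped Matrix commutatorElement
open Matrix Cfsg.Geo CfsgLib.Orth CfsgLib.Perm.Asch CfsgLib.Perm.Trans CfsgLib.Perm.Trans.Quad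
open MulAction (stabilizer)

variable {ι : Type} [Fintype ι] [DecidableEq ι] {F : Type*} [Field F] [Fintype F]
variable {Q : (ι → F) → F} {c : F}

local notation "pol" => QuadraticMap.polar

/-- the action on the sphere -/
instance sphAction : MulAction (Cfsg.Omega F Q) (Sph Q c) where
  smul g v := ⟨(omv g : Matrix ι ι F) *ᵥ v.1, (mem_iso.1 (omv_iso g) v.1).trans v.2⟩
  one_smul v := Subtype.ext (show ((1 : GL ι F) : Matrix ι ι F) *ᵥ v.1 = v.1 by rw [Units.val_one, one_mulVec])
  mul_smul g h v := Subtype.ext (show ((omv g * omv h : GL ι F) : Matrix ι ι F) *ᵥ v.1 = _ by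
    rw [gl_mul_mulVec]; rfl)

theorem smul_val (g : Cfsg.Omega F Q) (v : Sph Q c) : (g • v).1 = (omv g : Matrix ι ι F) *ᵥ v.1 := rfl

theorem mem_stab {g : Cfsg.Omega F Q} {v : Sph Q c} :
    g ∈ stabilizer (Cfsg.Omega F Q) v ↔ (omv g : Matrix ι ι F) *ᵥ v.1 = v.1 :=
  MulAction.mem_stabilizer_iff.trans Subtype.ext_iff

theorem stab_eq (v : Sph Q c) : stabilizer (Cfsg.Omega F Q) v = fixer Q {v.1} := by
  ext g
  rw [mem_stab, mem_fixer]
  simp

theorem J_eq (u v : Sph Q c) : StabStep.J (Cfsg.Omega F Q) u v = fixer Q {u.1, v.1} := by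
  ext g
  rw [Subgroup.mem_inf, mem_stab, mem_stab, mem_fixer]
  simp

/-- the range of the induction -/
structure Range (Q : (ι → F) → F) (c : F) : Prop where
  nd : IsNondegenerateQuadraticForm Q
  cne : c ≠ 0
  cases : ((2 : F) ≠ 0 ∧ (8 ≤ Fintype.card ι ∨ (7 ≤ Fintype.card ι ∧ 5 ≤ Fintype.card F))) ∨
    ((2 : F) = 0 ∧ c = 1 ∧ Even (Fintype.card ι) ∧ 8 ≤ Fintype.card ι ∧
      (4 ≤ Fintype.card F ∨ 10 ≤ Fintype.card ι))

variable (H : Range Q c)
include H

theorem Range.seven : 7 ≤ Fintype.card ι := by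
  rcases H.cases with ⟨-, h | h⟩ | ⟨-, -, -, h, -⟩ <;> omega

theorem Range.hex : Fintype.card F ≠ 2 ∨ Fintype.card ι ≠ 4 := Or.inr (by have := H.seven; omega)

theorem Range.hn : 2 ≤ Fintype.card ι := by have := H.seven; omega

theorem Range.eight (h : (2 : F) = 0) : 8 ≤ Fintype.card ι := by
  rcases H.cases with ⟨h', -⟩ | ⟨-, -, -, h8, -⟩
  · exact absurd h h'
  · exact h8

theorem Range.cone (h : (2 : F) = 0) : c = 1 := by
  rcases H.cases with ⟨h', -⟩ | ⟨-, hc, -, -, -⟩
  · exact absurd h h'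
  · exact hc

theorem Range.self (v : Sph Q c) : pol Q v.1 v.1 = 2 * c := by rw [pself H.nd, v.2]

theorem Range.self_zero (h : (2 : F) = 0) (v : Sph Q c) : pol Q v.1 v.1 = 0 := by
  rw [H.self, h, zero_mul]

theorem Range.ne_zero (v : Sph Q c) : v.1 ≠ 0 := fun h => H.cne (by rw [← v.2, h, qzero H.nd])

theorem Range.self_ne (h : (2 : F) ≠ 0) (v : Sph Q c) : pol Q v.1 v.1 ≠ 0 := by
  rw [H.self]
  exact mul_ne_zero h H.cne

/-- values on the perpendicular of at most three vectors, one of them on the sphere -/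
theorem room {T : Submodule F (ι → F)} (hT : Module.finrank F T ≤ 3) {u : Sph Q c} (hu : u.1 ∈ T) (e : F) :
    ∃ w ∈ qperp H.nd T, Q w = e := by
  refine exists_value_qperp H.nd ?_ e
  rcases H.cases with ⟨h2, h⟩ | ⟨h2, -, -, h8, -⟩
  · have := rad_lt H.nd hu hu (H.self_ne h2 u)
    omega
  · have := rad_le H.nd T
    omega

/-- values on the perpendicular of four vectors, two of them paired, in characteristic two -/
theorem room_four (h2 : (2 : F) = 0) {T : Submodule F (ι → F)} (hT : Module.finrank F T ≤ 4) {u : Sph Q c}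
    {y : ι → F} (hu : u.1 ∈ T) (hy : y ∈ T) (huy : pol Q u.1 y ≠ 0) (e : F) :
    ∃ w ∈ qperp H.nd T, Q w = e := by
  refine exists_value_qperp H.nd ?_ e
  have := H.eight h2
  have := rad_lt_two H.nd hu hy huy (H.self_zero h2 u)
  omega

omit H in
theorem finrank_pair (x y : ι → F) : Module.finrank F (Submodule.span F ({x, y} : Set (ι → F))) ≤ 2 := by
  classical
  rw [← show (↑({x, y} : Finset (ι → F)) : Set (ι → F)) = {x, y} by simp]
  exact (finrank_span_finset_le_card _).trans Finset.card_le_two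

omit H in
theorem finrank_triple (x y z : ι → F) :
    Module.finrank F (Submodule.span F ({x, y, z} : Set (ι → F))) ≤ 3 := by
  classical
  rw [← show (↑({x, y, z} : Finset (ι → F)) : Set (ι → F)) = {x, y, z} by simp]
  exact (finrank_span_finset_le_card _).trans Finset.card_le_three

omit H in
theorem finrank_four (x y z t : ι → F) :
    Module.finrank F (Submodule.span F ({x, y, z, t} : Set (ι → F))) ≤ 4 := by
  classical
  rw [← show (↑({x, y, z, t} : Finset (ι → F)) : Set (ι → F)) = {x, y, z, t} by simp]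
  exact (finrank_span_finset_le_card _).trans Finset.card_le_four

omit H in
/-- a perfect image gives perfection -/
theorem perfect_pull {G G' : Type*} [Group G] [Group G'] (ψ : G' →* G) {S : Subgroup G} {T : Subgroup G'}
    (hT : T ≤ ⁅T, T⁆) (hmap : T.map ψ = S) : S ≤ ⁅S, S⁆ := by
  rw [← hmap, ← Subgroup.map_commutator]
  exact Subgroup.map_mono hT

omit H in
theorem symp_perfect {G : Type*} [Group G] {S : Subgroup G} {m : ℕ}
    (hm : 3 ≤ m ∨ (m = 2 ∧ 3 ≤ Fintype.card F)) (φ : ↥S ≃* ↥(Matrix.symplecticGroup (Fin m) F)) :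
    S ≤ ⁅S, S⁆ := by
  have h := CfsgLib.Classical.commutator_symplectic (F := F) (m := m) (hm.imp_right Or.inl)
  refine perfect_pull (S.subtype.comp φ.symm.toMonoidHom) (T := ⊤) ?_ ?_
  · rw [← commutator_def, h]
  · rw [← MonoidHom.range_eq_map, MonoidHom.range_comp, MonoidHom.range_eq_top.2 φ.symm.surjective,
      ← MonoidHom.range_eq_map, Subgroup.range_subtype]

/-- stabilisers are perfect -/
theorem stab_perfect (a : Sph Q c) :
    stabilizer (Cfsg.Omega F Q) a ≤ ⁅stabilizer (Cfsg.Omega F Q) a, stabilizer (Cfsg.Omega F Q) a⁆ := by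
  have h7 := H.seven
  rw [stab_eq]
  rcases H.cases with ⟨h2, -⟩ | ⟨h2, hc, ⟨l, hl⟩, h8, -⟩
  · rw [← fixer_span]
    refine fixer_perfect H.nd (fun v hv hv0 => ?_) ?_
    · obtain ⟨r, rfl⟩ := Submodule.mem_span_singleton.1 hv
      have hr : r ≠ 0 := fun h => hv0 (by rw [h, zero_smul])
      have h' : pol Q (r • a.1) a.1 ≠ 0 := by
        rw [psmul_left H.nd]
        exact mul_ne_zero hr (H.self_ne h2 a)
      exact ⟨⟨a.1, Submodule.mem_span_singleton_self _, by rwa [pcomm]⟩, a.1,
        Submodule.mem_span_singleton_self _, h'⟩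
    · rw [finrank_span_singleton (H.ne_zero a)]
      omega
  · obtain ⟨φ⟩ := exists_stab_equiv H.nd h2 (m := l - 1) (a := a.1) (by omega) (by omega) (by rw [a.2, hc])
    exact symp_perfect (Or.inl (by omega)) φ

omit H in
theorem pair_nd {Q : (ι → F) → F} (hQ : IsNondegenerateQuadraticForm Q) {u v : ι → F}
    (hu : Q u = c) (hv : Q v = c) (h : pol Q u v * pol Q u v ≠ 4 * c * c) :
    NdOn Q (Submodule.span F ({u, v} : Set (ι → F))) := by
  intro x hx hx0
  obtain ⟨s, t, rfl⟩ := Submodule.mem_span_pair.1 hx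
  have eu : pol Q (s • u + t • v) u = s * (2 * c) + t * pol Q u v := by
    rw [padd_left hQ, psmul_left hQ, psmul_left hQ, pself hQ, hu, pcomm v u]
  have ev : pol Q (s • u + t • v) v = s * pol Q u v + t * (2 * c) := by
    rw [padd_left hQ, psmul_left hQ, psmul_left hQ, pself hQ, hv]
  have key : pol Q (s • u + t • v) u ≠ 0 ∨ pol Q (s • u + t • v) v ≠ 0 := by
    by_contra hcon
    push Not at hcon
    rw [eu, ev] at hcon
    obtain ⟨h1, h2⟩ := hcon
    have hs : s * (pol Q u v * pol Q u v - 4 * c * c) = 0 := by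
      linear_combination (pol Q u v) * h2 - 2 * c * h1
    have ht : t * (pol Q u v * pol Q u v - 4 * c * c) = 0 := by
      linear_combination (pol Q u v) * h1 - 2 * c * h2
    rw [mul_eq_zero, sub_eq_zero] at hs ht
    exact hx0 (by rw [hs.resolve_right h, ht.resolve_right h, zero_smul, zero_smul, add_zero])
  rcases key with h' | h'
  · exact ⟨⟨u, Submodule.subset_span (by simp), by rwa [pcomm]⟩, u, Submodule.subset_span (by simp), h'⟩
  · exact ⟨⟨v, Submodule.subset_span (by simp), by rwa [pcomm]⟩, v, Submodule.subset_span (by simp), h'⟩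

/-- stabilisers of nondegenerate planes are perfect -/
theorem pp_of_nd (u v : Sph Q c) (h : pol Q u.1 v.1 * pol Q u.1 v.1 ≠ 4 * c * c) :
    StabStep.PP (Cfsg.Omega F Q) u v := by
  have h7 := H.seven
  unfold StabStep.PP
  rw [J_eq, ← fixer_span]
  refine fixer_perfect H.nd (pair_nd H.nd u.2 v.2 h) ?_
  have := finrank_pair (F := F) u.1 v.1
  omega

end CfsgLib.Lie.Mult.Orth
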