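import Cfsg.Agent.Lib.Lie.Mult.Orth.Inst
import Cfsg.Agent.Lib.Perm.Trans.QuadStd

/-!
# Bounding the stem extensions of orthogonal groups by those of smaller ones
-/

set_option autoImplicit false
set_option linter.all false

namespace CfsgLib.Lie.Mult.Orth

open scoped Matrix commutatorElement
open Matrix Cfsg.Geo CfsgLib.Orth CfsgLib.Perm.Asch CfsgLib.Perm.Trans CfsgLib.Perm.Trans.Quad
open MulAction (stabilizer)

universe u

/-- every finite stem extension has at most `b` elements in its kernel -/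
def SBound (G : Type u) [Group G] (b : ℕ) : Prop :=
  ∀ (Γ : Type u) [Group Γ] [Finite Γ] (σ : Γ →* G), Cfsg.IsStemExtension σ → Nat.card σ.ker ≤ b

theorem SBound.congr {G G' : Type u} [Group G] [Group G'] (e : G ≃* G') {b : ℕ} (h : SBound G b) :
    SBound G' b := fun Γ _ _ σ hσ => by
  have hk : (e.symm.toMonoidHom.comp σ).ker = σ.ker := MonoidHom.ker_comp_of_injective _ _ e.symm.injective
  rw [← hk]
  exact h Γ _ ⟨e.symm.surjective.comp hσ.1, hk.le.trans hσ.2.1, hk.le.trans hσ.2.2⟩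

/-- the bound read off a multiplier -/
theorem SBound.of_multiplier {G : Type u} [Group G] {A : Type*} [CommGroup A] [Finite A]
    (h : Cfsg.HasSchurMultiplier G A) {b : ℕ} (hb : Nat.card A ≤ b) : SBound G b := fun Γ _ _ σ hσ => by
  obtain ⟨π, hπ⟩ := h.2 Γ σ hσ
  exact (Nat.card_le_card_of_surjective π hπ).trans hb

variable {F : Type u} [Field F] [Fintype F] {ι : Type} [Fintype ι] [DecidableEq ι]
variable {Q : (ι → F) → F} {c : F}

local notation "pol" => QuadraticMap.polar

/-- similar forms have isomorphic groups `Omega` -/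
theorem omega_congr {κ : Type} [Fintype κ] [DecidableEq κ] {R : (κ → F) → F}
    (e : ↥(Cfsg.isometryGroup F R) ≃* ↥(Cfsg.isometryGroup F Q)) :
    Nonempty (↥(Cfsg.Omega F R) ≃* ↥(Cfsg.Omega F Q)) := by
  have hmap : (commutator ↥(Cfsg.isometryGroup F R)).map e.toMonoidHom = commutator ↥(Cfsg.isometryGroup F Q) := by
    rw [commutator_def, Subgroup.map_commutator, Subgroup.map_top_of_surjective _ e.surjective, ← commutator_def]
  exact ⟨(e.subgroupMap (commutator ↥(Cfsg.isometryGroup F R))).trans (MulEquiv.subgroupCongr hmap)⟩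

/-- odd characteristic: the bound passes from the perpendicular of a vector -/
theorem step_odd (H : Range Q c) (h2 : (2 : F) ≠ 0) {a : ι → F} (ha : Q a = c) {κ : Type} [Fintype κ]
    [DecidableEq κ] (e : (κ → F) →ₗ[F] (ι → F)) (he : Function.Injective e)
    (hr : LinearMap.range e = qperp H.nd (Submodule.span F {a})) {b : ℕ}
    (hb : SBound ↥(Cfsg.Omega F (pullQ Q e)) b) : SBound ↥(Cfsg.Omega F Q) b := by
  intro Γ _ _ σ hσ
  have hQ := H.nd
  have hnd : NdOn Q (Submodule.span F {a}) := by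
    intro v hv hv0
    obtain ⟨r, rfl⟩ := Submodule.mem_span_singleton.1 hv
    have hr' : r ≠ 0 := fun h => hv0 (by rw [h, zero_smul])
    have h' : pol Q (r • a) a ≠ 0 := by
      rw [psmul_left hQ, pself hQ, ha]
      exact mul_ne_zero hr' (mul_ne_zero h2 H.cne)
    exact ⟨⟨a, Submodule.mem_span_singleton_self _, by rwa [pcomm]⟩, a, Submodule.mem_span_singleton_self _, h'⟩
  have ha0 : a ≠ 0 := fun h => H.cne (by rw [← ha, h, qzero hQ])
  have hdim : Fintype.card κ + 1 = Fintype.card ι := by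
    have h1 := finrank_qperp hQ (Submodule.span F {a})
    have h3 := CfsgLib.Orth.finrank_qperp_le hQ (Submodule.span F {a})
    rw [← hr, LinearMap.finrank_range_of_inj he, Module.finrank_fintype_fun_eq_card,
      finrank_span_singleton ha0] at h1 h3
    omega
  have := H.seven
  have hre : NdOn Q (LinearMap.range e) := by rw [hr]; exact qperp_nd hQ hnd
  obtain ⟨φ, -⟩ := exists_omega_equiv hQ e he hre (by omega) H.hn H.hex (Or.inr (by omega))
  have heq : stabilizer (Cfsg.Omega F Q) (⟨a, ha⟩ : Sph Q c) =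
      fixer Q (qperp hQ (LinearMap.range e) : Set (ι → F)) := by
    rw [stab_eq, hr, qperp_qperp hQ hnd, fixer_span]
  exact StabStep.card_ker_le (geo H ⟨a, ha⟩) hσ ((MulEquiv.subgroupCongr heq).trans φ)
    (fun Δ ρ hρ => hb _ ρ hρ)

/-- characteristic two: no proper stem extension -/
theorem step_even (H : Range Q c) (h2 : (2 : F) = 0) {a : ι → F} (ha : Q a = c) :
    SBound ↥(Cfsg.Omega F Q) 1 := by
  intro Γ _ _ σ hσ
  obtain ⟨l, hl⟩ : Even (Fintype.card ι) := by
    rcases H.cases with ⟨h, -⟩ | ⟨-, -, h, -, -⟩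
    · exact absurd h2 h
    · exact h
  have h8 := H.eight h2
  obtain ⟨φ⟩ := exists_stab_equiv H.nd h2 (m := l - 1) (a := a) (by omega) (by omega) (by rw [ha, H.cone h2])
  refine StabStep.card_ker_le (geo H ⟨a, ha⟩) hσ ((MulEquiv.subgroupCongr (stab_eq _)).trans φ)
    (fun Δ ρ hρ => sp_stem_trivial (m := l - 1) (by omega) (fun h => by omega) ?_ ρ hρ)
  rintro ⟨h3, hq⟩
  rcases H.cases with ⟨h, -⟩ | ⟨-, -, -, -, h⟩
  · exact h h2
  · omega

theorem card_perp {hQ : IsNondegenerateQuadraticForm Q} {a : ι → F} (ha : a ≠ 0) :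
    Module.finrank F (qperp hQ (Submodule.span F {a})) + 1 = Fintype.card ι := by
  have h1 := finrank_qperp hQ (Submodule.span F {a})
  have h3 := CfsgLib.Orth.finrank_qperp_le hQ (Submodule.span F {a})
  rw [finrank_span_singleton ha] at h1 h3
  omega

/-- hyperbolic pairs and one more vector inside a nondegenerate subspace -/
theorem exists_split (hQ : IsNondegenerateQuadraticForm Q) (h2 : (2 : F) ≠ 0) :
    ∀ (m : ℕ) (P : Submodule F (ι → F)), NdOn Q P → 2 * m + 1 ≤ Module.finrank F P →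
      ∃ f : (Fin m ⊕ Fin m → F) →ₗ[F] (ι → F), (∀ x, f x ∈ P) ∧
        (∀ x, Q (f x) = Cfsg.quadFormPlus m F x) ∧ ∃ a ∈ P, Q a ≠ 0 ∧ ∀ x, pol Q a (f x) = 0
  | 0, P, hP, hd => by
    obtain ⟨a, ha, hQa⟩ := exists_nonsingular hQ hP (fun h => by rw [h, finrank_bot] at hd; omega)
    exact ⟨0, fun x => P.zero_mem, fun x => by simp [Cfsg.quadFormPlus, qzero hQ], a, ha, hQa,
      fun x => pzero_right hQ a⟩
  | m + 1, P, hP, hd => by
    obtain ⟨u, hu, hu0, hQu⟩ := exists_qsingular hQ hP (by omega)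
    obtain ⟨v, hv, hQv, huv⟩ := exists_qpartner hQ hP hu hu0 hQu
    have hd' := pair_finrank hQ hu hv hQu hQv huv
    obtain ⟨f, hfP, hfQ, a, ha, hQa, haf⟩ := exists_split hQ h2 m (pairPerp hQ P u v)
      (CfsgLib.Perm.Trans.Quad.pair_nd hQ hu hv hQu hQv huv hP) (by omega)
    obtain ⟨haP, hau, hav⟩ := (mem_pairPerp hQ).1 ha
    let g : (Fin (m + 1) ⊕ Fin (m + 1) → F) →ₗ[F] (ι → F) :=
      (LinearMap.proj (Sum.inl 0)).smulRight u + (LinearMap.proj (Sum.inr 0)).smulRight v +
        f.comp (LinearMap.funLeft F F (Sum.map Fin.succ Fin.succ))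
    have hg : ∀ x, g x = x (Sum.inl 0) • u + x (Sum.inr 0) • v + f (x ∘ Sum.map Fin.succ Fin.succ) :=
      fun x => rfl
    refine ⟨g, fun x => ?_, fun x => ?_, a, haP, hQa, fun x => ?_⟩
    · rw [hg]
      exact P.add_mem (P.add_mem (P.smul_mem _ hu) (P.smul_mem _ hv)) ((mem_pairPerp hQ).1 (hfP _)).1
    · obtain ⟨-, h1, h3⟩ := (mem_pairPerp hQ).1 (hfP (x ∘ Sum.map Fin.succ Fin.succ))
      rw [hg, qadd hQ, qadd hQ, qsmul hQ, qsmul hQ, hQu, hQv, hfQ, psmul_left hQ, psmul_right hQ, huv,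
        padd_left hQ, psmul_left hQ, psmul_left hQ, pcomm u (f _), pcomm v (f _), h1, h3]
      simp only [Cfsg.quadFormPlus, Fin.sum_univ_succ, Function.comp_apply, Sum.map_inl, Sum.map_inr]
      ring
    · rw [hg, padd_right hQ, padd_right hQ, psmul_right hQ, psmul_right hQ, hau, hav, haf]
      ring

/-- dimension `2m + 1` from plus type in dimension `2m` -/
theorem bound_of_plus (h2 : (2 : F) ≠ 0) (hQ : IsNondegenerateQuadraticForm Q) {m : ℕ}
    (hn : Fintype.card ι = 2 * m + 1) (hm : 4 ≤ m ∨ (m = 3 ∧ 5 ≤ Fintype.card F)) {b : ℕ}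
    (hb : SBound ↥(Cfsg.Omega F (Cfsg.quadFormPlus m F)) b) : SBound ↥(Cfsg.Omega F Q) b := by
  obtain ⟨f, -, hfQ, a, -, hQa, haf⟩ := exists_split hQ h2 m ⊤ (ndOn_top hQ)
    (by rw [finrank_top, Module.finrank_fintype_fun_eq_card]; omega)
  have hpull : pullQ Q f = Cfsg.quadFormPlus m F := funext hfQ
  have hnd := quadFormPlus_nd (F := F) (m := m)
  have hf : Function.Injective f := by
    refine (injective_iff_map_eq_zero f).2 fun x hx => ?_
    by_contra hne
    obtain ⟨y, hy⟩ := (hnd.nondegenerate x hne).2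
    refine hy ?_
    rw [← hpull, pull_polar, hx, pzero_left hQ]
  have ha0 : a ≠ 0 := fun h => hQa (by rw [h, qzero hQ])
  have hr : LinearMap.range f = qperp hQ (Submodule.span F {a}) := by
    refine Submodule.eq_of_le_of_finrank_le ?_ ?_
    · rintro _ ⟨x, rfl⟩
      rw [mem_qperp_span]
      rintro w (rfl : w = a)
      rw [pcomm]
      exact haf x
    · have := card_perp (hQ := hQ) ha0
      rw [LinearMap.finrank_range_of_inj hf, Module.finrank_fintype_fun_eq_card, Fintype.card_sum,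
        Fintype.card_fin]
      omega
  refine step_odd ⟨hQ, hQa, Or.inl ⟨h2, ?_⟩⟩ h2 rfl f hf hr (by rw [hpull]; exact hb)
  omega

/-- all larger dimensions -/
theorem bound_up (h2 : (2 : F) ≠ 0) {b n₀ : ℕ} (hn₀ : 7 ≤ n₀)
    (base : ∀ (R : (Fin n₀ → F) → F), IsNondegenerateQuadraticForm R → SBound ↥(Cfsg.Omega F R) b) :
    ∀ (n : ℕ), n₀ ≤ n → ∀ (R : (Fin n → F) → F), IsNondegenerateQuadraticForm R →
      SBound ↥(Cfsg.Omega F R) b := by
  intro n hn
  induction n, hn using Nat.le_induction with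
  | base => exact base
  | succ n hn ih =>
    intro R hR
    obtain ⟨a, -, ha⟩ := exists_qvalue hR (ndOn_top hR)
      (by rw [finrank_top, Module.finrank_fintype_fun_eq_card, Fintype.card_fin]; omega) 1
    have ha0 : a ≠ 0 := fun h => one_ne_zero (α := F) (by rw [← ha, h, qzero hR])
    obtain ⟨e, he, hre⟩ := exists_coords (qperp hR (Submodule.span F {a}))
    have hd := card_perp (hQ := hR) ha0
    rw [Fintype.card_fin] at hd
    have hnd : NdOn R (LinearMap.range e) := by
      rw [hre]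
      refine qperp_nd hR fun v hv hv0 => ?_
      obtain ⟨r, rfl⟩ := Submodule.mem_span_singleton.1 hv
      have h' : pol R (r • a) a ≠ 0 := by
        rw [psmul_left hR, pself hR, ha, mul_one]
        exact mul_ne_zero (fun h => hv0 (by rw [h, zero_smul])) h2
      exact ⟨⟨a, Submodule.mem_span_singleton_self _, by rwa [pcomm]⟩, a,
        Submodule.mem_span_singleton_self _, h'⟩
    refine step_odd ⟨hR, one_ne_zero, Or.inl ⟨h2, Or.inl ?_⟩⟩ h2 ha e he hre ?_
    · rw [Fintype.card_fin]; omega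
    · have hpn := pull_nd hR e he hnd
      have key : ∀ (d : ℕ), d = n → ∀ (R' : (Fin d → F) → F), IsNondegenerateQuadraticForm R' →
          SBound ↥(Cfsg.Omega F R') b := fun d hd' => by subst hd'; exact ih
      exact key _ (by omega) _ hpn

end CfsgLib.Lie.Mult.Orth
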