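import Cfsg.Agent.Lib.Lie.Mult.Orth.CliffordOps
import Cfsg.Agent.Lib.Lie.Mult.Orth.Step
import Cfsg.Agent.Lib.Orth.Centre

/-!
# The double cover of `Omega` in odd characteristic

The commutator subgroup of the group of operators intertwining the elements of `Omega` on the regular
representation of the Clifford algebra of an orthogonal basis.
-/

set_option autoImplicit false
set_option linter.all false

namespace CfsgLib.Lie.Mult.Orth

open scoped Matrix commutatorElement
open Matrix Cfsg.Geo CfsgLib.Orth CfsgLib.Perm.Asch CfsgLib.Perm.Trans CfsgLib.Perm.Trans.Quad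

universe u

/-- the commutator subgroup of a central extension of a perfect group is a stem extension -/
theorem core_stem {Γ G : Type*} [Group Γ] [Group G] (π : Γ →* G) (hπ : Function.Surjective π)
    (hc : π.ker ≤ Subgroup.center Γ) (hG : commutator G = ⊤) :
    Cfsg.IsStemExtension (π.comp (commutator Γ).subtype) ∧ commutator ↥(commutator Γ) = ⊤ := by
  have hmap : (commutator Γ).map π = ⊤ := by
    rw [commutator_def, Subgroup.map_commutator, Subgroup.map_top_of_surjective _ hπ, ← commutator_def, hG]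
  have hdec : ∀ x : Γ, ∃ s ∈ commutator Γ, ∃ k ∈ Subgroup.center Γ, x = s * k := by
    intro x
    obtain ⟨s, hs, he⟩ := hmap.ge (Subgroup.mem_top (π x))
    exact ⟨s, hs, s⁻¹ * x, hc (by rw [MonoidHom.mem_ker, map_mul, map_inv, he, inv_mul_cancel]),
      (mul_inv_cancel_left s x).symm⟩
  have hper : commutator ↥(commutator Γ) = ⊤ := by
    refine Subgroup.map_injective (commutator Γ).subtype_injective ?_
    rw [Subgroup.map_subtype_commutator, ← MonoidHom.range_eq_map, Subgroup.range_subtype]
    refine le_antisymm (Subgroup.commutator_mono le_top le_top) ?_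
    refine (commutator_def Γ).le.trans (Subgroup.commutator_le.2 ?_)
    rintro x - y -
    obtain ⟨s, hs, k, hk, rfl⟩ := hdec x
    obtain ⟨t, ht, m, hm, rfl⟩ := hdec y
    rw [Subgroup.mem_center_iff] at hk hm
    have : ⁅s * k, t * m⁆ = ⁅s, t⁆ := by
      simp only [commutatorElement_def, _root_.mul_inv_rev]
      calc s * k * (t * m) * (k⁻¹ * s⁻¹) * (m⁻¹ * t⁻¹)
          = s * t * (m * k) * k⁻¹ * (s⁻¹ * m⁻¹) * t⁻¹ := by
            rw [show s * k * (t * m) = s * t * (m * k) by
              rw [mul_assoc s k, ← mul_assoc k t, ← hk t, mul_assoc t k, hk m, ← mul_assoc, ← mul_assoc]]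
            simp only [mul_assoc]
        _ = s * t * m * (s⁻¹ * m⁻¹) * t⁻¹ := by simp only [mul_assoc, mul_inv_cancel_left]
        _ = s * t * s⁻¹ * t⁻¹ := by
            rw [mul_assoc (s * t) m, ← mul_assoc m, ← hm s⁻¹, mul_assoc s⁻¹, mul_inv_cancel, mul_one]
    rw [this]
    exact Subgroup.commutator_mem_commutator hs ht
  refine ⟨⟨fun g => ?_, fun x hx => ?_, by rw [hper]; exact le_top⟩, hper⟩
  · obtain ⟨s, hs, he⟩ := hmap.ge (Subgroup.mem_top g)
    exact ⟨⟨s, hs⟩, he⟩
  · exact Subgroup.mem_center_iff.2 fun y => Subtype.ext (Subgroup.mem_center_iff.1 (hc hx) y.1)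

variable {F : Type u} [Field F] [Fintype F] {ι : Type} [Fintype ι] [DecidableEq ι]
variable {Q : (ι → F) → F}

local notation "pol" => QuadraticMap.polar

/-- an orthogonal family of anisotropic vectors spans a nondegenerate subspace -/
theorem orth_ndOn (hQ : IsNondegenerateQuadraticForm Q) (h2 : (2 : F) ≠ 0) {k : ℕ} {v : Fin k → ι → F}
    (ho : ∀ i j, i ≠ j → pol Q (v i) (v j) = 0) (hv : ∀ i, Q (v i) ≠ 0) :
    NdOn Q (Submodule.span F (Set.range v)) ∧ LinearIndependent F v := by
  have key : ∀ (c : Fin k → F) (i), pol Q (v i) (∑ j, c j • v j) = c i * (2 * Q (v i)) := fun c i => by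
    have gen : ∀ S : Finset (Fin k), pol Q (v i) (∑ j ∈ S, c j • v j) =
        if i ∈ S then c i * (2 * Q (v i)) else 0 := by
      intro S
      induction S using Finset.induction with
      | empty => simp [pzero_right hQ]
      | insert j S hj ih =>
        rw [Finset.sum_insert hj, padd_right hQ, psmul_right hQ, ih]
        by_cases e : i = j
        · subst e
          rw [pself hQ, if_neg hj, if_pos (Finset.mem_insert_self _ _), add_zero]
        · rw [ho i j e, mul_zero, zero_add]
          simp [e]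
    rw [gen Finset.univ, if_pos (Finset.mem_univ i)]
  refine ⟨fun x hx hx0 => ?_, Fintype.linearIndependent_iff.2 fun c hc i => ?_⟩
  · obtain ⟨c, rfl⟩ := (Submodule.mem_span_range_iff_exists_fun F).1 hx
    obtain ⟨i, hi⟩ : ∃ i, c i ≠ 0 := by
      by_contra hcon
      push Not at hcon
      exact hx0 (Finset.sum_eq_zero fun i _ => by rw [hcon, zero_smul])
    have h : pol Q (v i) (∑ j, c j • v j) ≠ 0 := by
      rw [key]; exact mul_ne_zero hi (mul_ne_zero h2 (hv i))
    exact ⟨⟨v i, Submodule.subset_span ⟨i, rfl⟩, h⟩, v i, Submodule.subset_span ⟨i, rfl⟩, by rwa [pcomm]⟩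
  · have h := key c i
    rw [hc, pzero_right hQ] at h
    exact (mul_eq_zero.1 h.symm).resolve_right (mul_ne_zero h2 (hv i))

/-- orthogonal vectors of value one -/
theorem exists_ones (hQ : IsNondegenerateQuadraticForm Q) (h2 : (2 : F) ≠ 0) :
    ∀ k, k + 1 ≤ Fintype.card ι →
      ∃ v : Fin k → ι → F, (∀ i j, i ≠ j → pol Q (v i) (v j) = 0) ∧ ∀ i, Q (v i) = 1
  | 0, _ => ⟨Fin.elim0, fun i => i.elim0, fun i => i.elim0⟩
  | k + 1, hk => by
    obtain ⟨v, ho, hv⟩ := exists_ones hQ h2 k (by omega)
    obtain ⟨hnd, hli⟩ := orth_ndOn hQ h2 ho fun i => by rw [hv]; exact one_ne_zero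
    obtain ⟨x, hx, hx1⟩ := exists_value_two hQ (qperp_nd hQ hnd) (by
      have := finrank_qperp hQ (Submodule.span F (Set.range v))
      rw [finrank_span_eq_card hli, Fintype.card_fin] at this
      omega) 1
    rw [mem_qperp_span] at hx
    refine ⟨Fin.snoc v x, fun i j hij => ?_, fun i => ?_⟩
    · induction i using Fin.lastCases with
      | last =>
        induction j using Fin.lastCases with
        | last => exact absurd rfl hij
        | cast j => rw [Fin.snoc_last, Fin.snoc_castSucc]; exact hx _ ⟨j, rfl⟩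
      | cast i =>
        induction j using Fin.lastCases with
        | last => rw [Fin.snoc_last, Fin.snoc_castSucc, pcomm]; exact hx _ ⟨i, rfl⟩
        | cast j =>
          rw [Fin.snoc_castSucc, Fin.snoc_castSucc]
          exact ho i j fun e => hij (by rw [e])
    · induction i using Fin.lastCases with
      | last => rw [Fin.snoc_last]; exact hx1
      | cast i => rw [Fin.snoc_castSucc]; exact hv i

/-- an orthogonal basis with values one except perhaps the last, and all one if `-1` is in `Omega` -/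
theorem exists_basis_std (hQ : IsNondegenerateQuadraticForm Q) (h2 : (2 : F) ≠ 0) {k : ℕ}
    (hk : Fintype.card ι = k + 1) (h1 : 1 ≤ k) :
    ∃ (b : Module.Basis (Fin (k + 1)) F (ι → F)), (∀ i, Q (b i) ≠ 0) ∧
      (∀ i j, i ≠ j → pol Q (b i) (b j) = 0) ∧ (∀ i, i ≠ Fin.last k → Q (b i) = 1) ∧
      ((∃ g : Cfsg.Omega F Q, ∀ w, (omv g : Matrix ι ι F) *ᵥ w = -w) → ∀ i, Q (b i) = 1) := by
  obtain ⟨v, ho, hv⟩ := exists_ones hQ h2 k (by omega)
  obtain ⟨hnd, hli⟩ := orth_ndOn hQ h2 ho fun i => by rw [hv]; exact one_ne_zero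
  obtain ⟨x, hx, hx0⟩ := exists_nonsingular hQ (qperp_nd hQ hnd) (fun hbot => by
    have := finrank_qperp hQ (Submodule.span F (Set.range v))
    rw [finrank_span_eq_card hli, Fintype.card_fin, hbot, finrank_bot] at this
    omega)
  rw [mem_qperp_span] at hx
  -- the basis for a choice of the last vector
  have mk : ∀ y : ι → F, Q y ≠ 0 → (∀ i, pol Q y (v i) = 0) →
      ∃ b : Module.Basis (Fin (k + 1)) F (ι → F), (∀ i, Q (b i) ≠ 0) ∧
        (∀ i j, i ≠ j → pol Q (b i) (b j) = 0) ∧ (∀ i, i ≠ Fin.last k → Q (b i) = 1) ∧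
        b (Fin.last k) = y := by
    intro y hy0 hyv
    have ho' : ∀ i j, i ≠ j → pol Q (Fin.snoc (α := fun _ => ι → F) v y i) (Fin.snoc (α := fun _ => ι → F) v y j) = 0 := by
      intro i j hij
      induction i using Fin.lastCases with
      | last =>
        induction j using Fin.lastCases with
        | last => exact absurd rfl hij
        | cast j => rw [Fin.snoc_last, Fin.snoc_castSucc]; exact hyv j
      | cast i =>
        induction j using Fin.lastCases with
        | last => rw [Fin.snoc_last, Fin.snoc_castSucc, pcomm]; exact hyv i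
        | cast j =>
          rw [Fin.snoc_castSucc, Fin.snoc_castSucc]
          exact ho i j fun e => hij (by rw [e])
    have h1' : ∀ i, i ≠ Fin.last k → Q (Fin.snoc (α := fun _ => ι → F) v y i) = 1 := by
      intro i hi
      induction i using Fin.lastCases with
      | last => exact absurd rfl hi
      | cast i => rw [Fin.snoc_castSucc]; exact hv i
    have h0 : ∀ i, Q (Fin.snoc (α := fun _ => ι → F) v y i) ≠ 0 := by
      intro i
      by_cases hi : i = Fin.last k
      · rw [hi, Fin.snoc_last]; exact hy0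
      · rw [h1' i hi]; exact one_ne_zero
    obtain ⟨-, hli'⟩ := orth_ndOn hQ h2 ho' h0
    refine ⟨basisOfLinearIndependentOfCardEqFinrank hli' (by
      rw [Fintype.card_fin, Module.finrank_fintype_fun_eq_card, hk]), ?_⟩
    rw [coe_basisOfLinearIndependentOfCardEqFinrank]
    exact ⟨h0, ho', h1', Fin.snoc_last _ _⟩
  obtain ⟨b, hb0, hbo, hb1, hbl⟩ := mk x hx0 fun i => hx _ ⟨i, rfl⟩
  by_cases hneg : ∃ g : Cfsg.Omega F Q, ∀ w, (omv g : Matrix ι ι F) *ᵥ w = -w
  swap
  · exact ⟨b, hb0, hbo, hb1, fun h => absurd h hneg⟩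
  obtain ⟨g, hg⟩ := hneg
  obtain ⟨-, hs⟩ := spn_of_negating hQ h2 (omv_iso g) (w := fun i => b i) b.linearIndependent (fun i => hg _)
    (fun y => by rw [b.span_eq]; exact Submodule.mem_top)
  have hmem := ((mem_omega_iff hQ (by omega) (hex_of_two h2) g.1).1 g.2).1
  change spn Q (omv g) = 1 at hmem
  rw [hmem] at hs
  have hdet : (Matrix.of fun i j => pol Q (b i) (b j)) = Matrix.diagonal fun i => 2 * Q (b i) :=
    Matrix.ext fun i j => by
      by_cases e : i = j
      · subst e; rw [Matrix.of_apply, pself hQ, Matrix.diagonal_apply_eq]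
      · rw [Matrix.of_apply, hbo i j e, Matrix.diagonal_apply_ne _ e]
  rw [hdet, Matrix.det_diagonal, Finset.prod_mul_distrib, Finset.prod_const, Finset.card_univ, Fintype.card_fin,
    Finset.prod_eq_single (Fin.last k) (fun i _ hi => hb1 i hi) (fun h => absurd (Finset.mem_univ _) h)] at hs
  obtain ⟨r, hr⟩ := (sqc_eq_one_iff (mul_ne_zero (pow_ne_zero _ h2) (mul_ne_zero (pow_ne_zero _ h2) (hb0 _)))).1 hs.symm
  obtain ⟨p, hp⟩ : ∃ p, p = (2 : F) ^ (k + 1) := ⟨_, rfl⟩
  have hp0 : p ≠ 0 := hp ▸ pow_ne_zero _ h2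
  rw [← hp, hbl] at hr
  have hr0 : r ≠ 0 := fun h => by
    rw [h, mul_zero] at hr
    exact mul_ne_zero hp0 (mul_ne_zero hp0 hx0) hr
  have hy1 : Q ((p / r) • x) = 1 := by
    rw [qsmul hQ]
    field_simp
    linear_combination hr
  obtain ⟨b', hb0', hbo', hb1', hbl'⟩ := mk ((p / r) • x) (by rw [hy1]; exact one_ne_zero)
    fun i => by rw [psmul_left hQ, hx _ ⟨i, rfl⟩, mul_zero]
  refine ⟨b', hb0', hbo', hb1', fun _ i => ?_⟩
  by_cases hi : i = Fin.last k
  · rw [hi, hbl']; exact hy1
  · exact hb1' i hi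

end CfsgLib.Lie.Mult.Orth
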