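import Cfsg.Agent.Lib.Lie.Mult.Orth.Lifts

/-!
# The double cover of `Omega`: its kernel and the square of a lift of `-1`
-/

set_option autoImplicit false
set_option linter.all false

namespace CfsgLib.Lie.Mult.Orth

open scoped Matrix commutatorElement
open Matrix Cfsg.Geo CfsgLib.Orth CfsgLib.Perm.Asch CfsgLib.Perm.Trans CfsgLib.Perm.Trans.Quad Cliff

universe u

variable {F : Type u} [Field F] [Fintype F] {ι : Type} [Fintype ι] [DecidableEq ι]
variable {Q : (ι → F) → F} {n : ℕ}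
variable {b : Module.Basis (Fin n) F (ι → F)} {d : Fin n → F}

local notation "pol" => QuadraticMap.polar
local notation "EF" => Module.End F (Cliff.Sp n F)

/-- a left multiplication as a unit -/
noncomputable def lu (B : OBasis Q b d) (i : Fin n) : (EF)ˣ :=
  ⟨Lop d i, (d i)⁻¹ • Lop d i,
    LinearMap.ext fun f => by
      rw [Module.End.mul_apply, LinearMap.smul_apply, map_smul, ← Module.End.mul_apply, Lop_sq,
        LinearMap.smul_apply, Module.End.one_apply, smul_smul, inv_mul_cancel₀ (B.ne i), one_smul],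
    LinearMap.ext fun f => by
      rw [Module.End.mul_apply, LinearMap.smul_apply, ← Module.End.mul_apply, Lop_sq,
        LinearMap.smul_apply, Module.End.one_apply, smul_smul, inv_mul_cancel₀ (B.ne i), one_smul]⟩

variable (B : OBasis Q b d)
include B

omit B in
/-- the operators of the cover -/
def unitsOf (b : Module.Basis (Fin n) F (ι → F)) (d : Fin n → F) (Q : (ι → F) → F) : Subgroup (EF)ˣ :=
  (commutator ↥(spinPre b d Q)).map ((MonoidHom.fst _ _).comp (spinPre b d Q).subtype)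

theorem pair_mem_pre (h2n : 2 ≤ Fintype.card ι) {a c : Fin n} (hac : a ≠ c) (ha : d a = 1) (hc : d c = 1) :
    ∃ g : Cfsg.Omega F Q, (lu B a * lu B c, g) ∈ spinPre b d Q := by
  have hQ := B.nd
  have hva : Q (b a) ≠ 0 := by rw [B.val, ha]; exact one_ne_zero
  have hvc : Q (b c) ≠ 0 := by rw [B.val, hc]; exact one_ne_zero
  obtain ⟨r, hr, hrv⟩ := exists_refl hQ hva
  obtain ⟨s, hs, hsv⟩ := exists_refl hQ hvc
  obtain ⟨e1, e2⟩ := refl_spn hQ hr hrv hva
  obtain ⟨f1, f2⟩ := refl_spn hQ hs hsv hvc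
  obtain ⟨p, q⟩ := spn_mul hQ (iso_le_reflGroup hQ (hex_of_two B.two) hr) hs
  refine ⟨⟨⟨r * s, mul_mem hr hs⟩, (mem_omega_iff hQ h2n (hex_of_two B.two) _).2 ⟨?_, ?_⟩⟩, fun w => ?_, fun j => ?_, ?_⟩
  · show spn Q (r * s) = 1
    rw [p, e2, f2, B.val, B.val, ha, hc, sqc_one, one_mul]
  · show Even (wrk (r * s))
    rw [q, e1, f1]
  · show Lop d a * Lop d c * gam b d w = gam b d (((r * s : GL ι F) : Matrix ι ι F) *ᵥ w) * (Lop d a * Lop d c)
    rw [gl_mul_mulVec, ← gam_basis b d a, ← gam_basis b d c, mul_assoc, gam_refl B hvc hsv, emul_neg, ← mul_assoc,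
      gam_refl B hva hrv, eneg_mul, neg_neg, mul_assoc]
  · show Commute (Lop d a * Lop d c) (Rop d j)
    exact Commute.mul_left (Lop_Rop d a j) (Lop_Rop d c j)
  · show Lop d a * Lop d c * Pop = Pop * (Lop d a * Lop d c)
    rw [← mul_assoc Pop, Pop_Lop, eneg_mul, mul_assoc (Lop d a) Pop, Pop_Lop, emul_neg, neg_neg, mul_assoc]

theorem pair_mem (h7 : 7 ≤ Fintype.card ι) {a c : Fin n} (hac : a ≠ c) (ha : d a = 1) (hc : d c = 1)
    (h3 : ∃ e, e ≠ a ∧ e ≠ c ∧ d e = 1) : lu B c * (lu B a)⁻¹ ∈ unitsOf b d Q := by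
  have hQ := B.nd
  obtain ⟨e, hea, hec, he⟩ := h3
  obtain ⟨g, hg⟩ := pair_mem_pre B (by omega) hea.symm ha he
  obtain ⟨h, hh⟩ := exists_omega_maps hQ (by omega) (hex_of_two B.two) ![b a, b e] ![b c, b e]
    (by
      have := b.linearIndependent.comp ![a, e] (by
        intro i j; fin_cases i <;> fin_cases j <;> simp [hea, hea.symm])
      convert this using 1
      funext i; fin_cases i <;> rfl)
    (by
      have := b.linearIndependent.comp ![c, e] (by
        intro i j; fin_cases i <;> fin_cases j <;> simp [hec, hec.symm])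
      convert this using 1
      funext i; fin_cases i <;> rfl)
    (fun i => by fin_cases i <;> simp [B.val, ha, hc])
    (fun i j => by
      fin_cases i <;> fin_cases j <;>
        simp [pself hQ, B.val, ha, hc, he, B.orth _ _ hea, B.orth _ _ hea.symm, B.orth _ _ hec, B.orth _ _ hec.symm])
    (fun t _ => exists_value_qperp hQ (by
      have := finrank_span_fin ![b c, b e]
      have := rad_le hQ (Submodule.span F (Set.range ![b c, b e]))
      omega) t)
  obtain ⟨⟨⟨y, h'⟩, hy⟩, rfl⟩ := spinPi_surjective B (by omega) h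
  change ∀ i, (omv h' : Matrix ι ι F) *ᵥ ![b a, b e] i = ![b c, b e] i at hh
  have conj : ∀ i j, (omv h' : Matrix ι ι F) *ᵥ b i = b j → y * lu B i * y⁻¹ = lu B j := by
    intro i j hij
    have e1 := hy.1 (b i)
    rw [hij, gam_basis, gam_basis] at e1
    rw [mul_inv_eq_iff_eq_mul]
    exact Units.ext e1
  refine ⟨⁅(⟨(y, h'), hy⟩ : ↥(spinPre b d Q)), ⟨(lu B a * lu B e, g), hg⟩⁆,
    Subgroup.commutator_mem_commutator (Subgroup.mem_top _) (Subgroup.mem_top _), ?_⟩
  show ⁅y, lu B a * lu B e⁆ = _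
  rw [commutatorElement_def, show y * (lu B a * lu B e) * y⁻¹ = (y * lu B a * y⁻¹) * (y * lu B e * y⁻¹) by group,
    conj a c (hh 0), conj e e (hh 1)]
  group

theorem neg_one_mem (h7 : 7 ≤ Fintype.card ι) {a c : Fin n} (hac : a ≠ c) (ha : d a = 1) (hc : d c = 1)
    (h3 : ∃ e, e ≠ a ∧ e ≠ c ∧ d e = 1) : (-1 : (EF)ˣ) ∈ unitsOf b d Q := by
  have h := mul_mem (pair_mem B h7 hac ha hc h3) (pair_mem B h7 hac ha hc h3)
  have : lu B c * (lu B a)⁻¹ * (lu B c * (lu B a)⁻¹) = -1 := by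
    refine Units.ext ?_
    show Lop d c * ((d a)⁻¹ • Lop d a) * (Lop d c * ((d a)⁻¹ • Lop d a)) = -1
    rw [ha, inv_one, one_smul, mul_assoc (Lop d c), ← mul_assoc (Lop d a), Lop_anti d hac, eneg_mul, emul_neg,
      mul_assoc (Lop d c) (Lop d a), Lop_sq, ha, one_smul, mul_one, Lop_sq, hc, one_smul]
  rwa [this] at h

omit B in
/-- the first `k` pairs -/
noncomputable def pairsProd (B : OBasis Q b d) {l : ℕ} (hl : n = 2 * l) : (k : ℕ) → k ≤ l → (EF)ˣ
  | 0, _ => 1
  | k + 1, hk => pairsProd B hl k (by omega) *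
      (lu B ⟨2 * k, by omega⟩ * (lu B ⟨2 * k + 1, by omega⟩)⁻¹)

theorem pairsProd_spec (h7 : 7 ≤ Fintype.card ι) (h1 : ∀ i, d i = 1) {l : ℕ} (hl : n = 2 * l) :
    ∀ (k : ℕ) (hk : k ≤ l), pairsProd B hl k hk ∈ unitsOf b d Q ∧
      (∀ i : Fin n, (pairsProd B hl k hk : EF) * Lop d i =
        if (i : ℕ) < 2 * k then -(Lop d i * pairsProd B hl k hk) else Lop d i * pairsProd B hl k hk) ∧
      pairsProd B hl k hk * pairsProd B hl k hk = (-1) ^ k
  | 0, _ => ⟨one_mem _, fun i => by simp [pairsProd], by simp [pairsProd]⟩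
  | k + 1, hk => by
    obtain ⟨hm, hc, hs⟩ := pairsProd_spec h7 h1 hl k (by omega)
    obtain ⟨U, hU⟩ : ∃ U, U = pairsProd B hl k (by omega) := ⟨_, rfl⟩
    obtain ⟨p, hp⟩ : ∃ p : Fin n, p = ⟨2 * k, by omega⟩ := ⟨_, rfl⟩
    obtain ⟨q, hq⟩ : ∃ q : Fin n, q = ⟨2 * k + 1, by omega⟩ := ⟨_, rfl⟩
    have hpv : (p : ℕ) = 2 * k := by rw [hp]
    have hqv : (q : ℕ) = 2 * k + 1 := by rw [hq]
    have hpq : p ≠ q := fun e => by rw [e] at hpv; omega
    have e0 : pairsProd B hl (k + 1) hk = U * (lu B p * (lu B q)⁻¹) := by rw [pairsProd, hU, hp, hq]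
    rw [← hU] at hm hc hs
    have hmem : lu B p * (lu B q)⁻¹ ∈ unitsOf b d Q := by
      refine pair_mem B h7 hpq.symm (h1 q) (h1 p) ?_
      obtain ⟨e, -, he⟩ := Finset.exists_mem_notMem_of_card_lt_card (s := ({p, q} : Finset (Fin n)))
        (t := Finset.univ) (lt_of_le_of_lt Finset.card_le_two (by
          have := Module.finrank_eq_card_basis b
          rw [Module.finrank_fintype_fun_eq_card, Fintype.card_fin] at this
          rw [Finset.card_univ, Fintype.card_fin]; omega))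
      simp only [Finset.mem_insert, Finset.mem_singleton, not_or] at he
      exact ⟨e, he.2, he.1, h1 e⟩
    have hP : ((lu B p * (lu B q)⁻¹ : (EF)ˣ) : EF) = Lop d p * Lop d q := by
      show Lop d p * ((d q)⁻¹ • Lop d q) = _
      rw [h1, inv_one, one_smul]
    have hsq1 : Lop d p * Lop d q * (Lop d p * Lop d q) = -1 := by
      rw [mul_assoc (Lop d p), ← mul_assoc (Lop d q), Lop_anti d hpq.symm, eneg_mul, emul_neg,
        mul_assoc (Lop d p) (Lop d q), Lop_sq, h1, one_smul, mul_one, Lop_sq, h1, one_smul]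
    have hcomm : (U : EF) * (Lop d p * Lop d q) = Lop d p * Lop d q * U := by
      have a1 := hc p
      have a2 := hc q
      rw [if_neg (by omega)] at a1 a2
      rw [← mul_assoc, a1, mul_assoc, a2, ← mul_assoc]
    rw [e0]
    refine ⟨mul_mem hm hmem, fun i => ?_, Units.ext ?_⟩
    · rw [Units.val_mul, hP]
      have flip : ∀ j : Fin n, ¬ (j : ℕ) < 2 * k → Lop d p * Lop d q * Lop d j = -(Lop d j * (Lop d p * Lop d q)) →
          (U : EF) * (Lop d p * Lop d q) * Lop d j = -(Lop d j * ((U : EF) * (Lop d p * Lop d q))) := by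
        intro j hj hPj
        have a1 := hc j
        rw [if_neg hj] at a1
        rw [mul_assoc (U : EF), hPj, emul_neg, ← mul_assoc (U : EF), a1, mul_assoc]
      by_cases hip : i = p
      · rw [hip, if_pos (by omega)]
        refine flip p (by omega) ?_
        rw [mul_assoc, Lop_anti d hpq.symm, emul_neg]
      by_cases hiq : i = q
      · rw [hiq, if_pos (by omega)]
        refine flip q (by omega) ?_
        rw [← mul_assoc (Lop d q), Lop_anti d hpq.symm, eneg_mul, neg_neg]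
      have hcm : Lop d p * Lop d q * Lop d i = Lop d i * (Lop d p * Lop d q) := by
        rw [mul_assoc, Lop_anti d fun e : q = i => hiq e.symm, emul_neg, ← mul_assoc, Lop_anti d fun e : p = i => hip e.symm,
          eneg_mul, neg_neg, mul_assoc]
      have hiff : (i : ℕ) < 2 * (k + 1) ↔ (i : ℕ) < 2 * k := by
        have : (i : ℕ) ≠ 2 * k := fun e => hip (Fin.ext (e.trans hpv.symm))
        have : (i : ℕ) ≠ 2 * k + 1 := fun e => hiq (Fin.ext (e.trans hqv.symm))
        omega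
      rw [mul_assoc (U : EF), hcm, ← mul_assoc (U : EF), hc i]
      by_cases hlt : (i : ℕ) < 2 * k
      · rw [if_pos hlt, if_pos (hiff.2 hlt), eneg_mul, mul_assoc]
      · rw [if_neg hlt, if_neg (mt hiff.1 hlt), mul_assoc]
    · rw [Units.val_mul, Units.val_mul, hP, mul_assoc (U : EF), ← mul_assoc (Lop d p * Lop d q), ← hcomm,
        mul_assoc (U : EF), hsq1, emul_neg, mul_one, emul_neg, ← Units.val_mul, hs, pow_succ, Units.val_mul,
        Units.val_neg, Units.val_one, emul_neg, mul_one]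

omit B in
/-- the double cover -/
theorem exists_spin (hQ : IsNondegenerateQuadraticForm Q) (h2 : (2 : F) ≠ 0) (h7 : 7 ≤ Fintype.card ι)
    (hb : SBound ↥(Cfsg.Omega F Q) 2) :
    ∃ (S : Type u) (_ : Group S) (_ : Finite S) (σ : S →* ↥(Cfsg.Omega F Q)), Cfsg.IsStemExtension σ ∧
      commutator S = ⊤ ∧ Nat.card σ.ker = 2 ∧
      ∀ (l : ℕ), Fintype.card ι = 2 * l → ∀ g : Cfsg.Omega F Q, (∀ w, (omv g : Matrix ι ι F) *ᵥ w = -w) →
        ∃ u z : S, σ u = g ∧ σ z = 1 ∧ z ≠ 1 ∧ z * z = 1 ∧ u * u = z ^ l := by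
  classical
  obtain ⟨k, hk⟩ : ∃ k, Fintype.card ι = k + 1 := ⟨Fintype.card ι - 1, by omega⟩
  obtain ⟨b, hb0, hbo, hb1, hbneg⟩ := exists_basis_std hQ h2 hk (by omega)
  obtain ⟨d, hd⟩ : ∃ d : Fin (k + 1) → F, d = fun i => Q (b i) := ⟨_, rfl⟩
  have B : OBasis Q b d := ⟨hQ, h2, fun i => by rw [hd], hbo, fun i => by rw [hd]; exact hb0 i⟩
  obtain ⟨hst, hper⟩ := core_stem (spinPi b d Q) (spinPi_surjective B (by omega)) (spinPi_ker B)
    (omega_perfect hQ (by omega))
  haveI : Finite (Module.End F (Sp (k + 1) F)) := Finite.of_injective _ DFunLike.coe_injective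
  have hle := hb _ _ hst
  have hone : ∀ i : Fin (k + 1), (i : ℕ) < k → d i = 1 := fun i hi => by
    rw [hd]
    exact hb1 i fun e => by rw [e, Fin.val_last] at hi; omega
  have hneg : (-1 : (Module.End F (Sp (k + 1) F))ˣ) ∈ unitsOf b d Q :=
    neg_one_mem B h7 (a := ⟨0, by omega⟩) (c := ⟨1, by omega⟩) (by simp) (hone _ (by simp; omega))
      (hone _ (by simp; omega)) ⟨⟨2, by omega⟩, by simp, by simp, hone _ (by simp; omega)⟩
  have hne : (-1 : (Module.End F (Sp (k + 1) F))ˣ) ≠ 1 := fun e => by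
    have h := congrFun (LinearMap.congr_fun (congrArg Units.val e) (vac (k + 1) F)) fun _ => false
    simp [vac] at h
    exact h2 (by linear_combination -h)
  -- lifts of elements acting by a sign
  have lift : ∀ (x : (Module.End F (Sp (k + 1) F))ˣ), x ∈ unitsOf b d Q → ∀ g : Cfsg.Omega F Q,
      (∀ w, (x : Module.End F (Sp (k + 1) F)) * gam b d w = gam b d ((omv g : Matrix ι ι F) *ᵥ w) * x) →
      ∃ s : ↥(commutator ↥(spinPre b d Q)), s.1.1.1 = x ∧ spinPi b d Q s.1 = g := by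
    rintro x ⟨⟨⟨x', g'⟩, hp⟩, hs, rfl⟩ g hg
    refine ⟨⟨_, hs⟩, rfl, omv_injective (Units.ext (Matrix.ext_iff_mulVec.2 fun w => gam_injective B ?_))⟩
    have e := (hp.1 w).symm.trans (hg w)
    exact (Units.mul_left_inj x').1 e
  obtain ⟨z, hz1, hz2⟩ := lift _ hneg 1 (fun w => by simp [omv])
  refine ⟨_, inferInstance, inferInstance, _, hst, hper, le_antisymm hle ?_, fun l hl g hg => ?_⟩
  · refine Finite.one_lt_card_iff_nontrivial.2 ⟨⟨z, hz2⟩, 1, fun e => hne ?_⟩
    rw [← hz1, show z = 1 from congrArg Subtype.val e]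
    rfl
  · have hall : ∀ i, d i = 1 := fun i => by rw [hd]; exact hbneg ⟨g, hg⟩ i
    obtain ⟨m1, m2, m3⟩ := pairsProd_spec B h7 hall (l := l) (by omega) l le_rfl
    obtain ⟨u, hu1, hu2⟩ := lift _ m1 g (fun w => by
      rw [hg, map_neg, eneg_mul]
      refine lin_ind b (P := fun w => (pairsProd B (by omega : k + 1 = 2 * l) l le_rfl : Module.End F (Sp (k + 1) F)) *
        gam b d w = -(gam b d w * (pairsProd B (by omega : k + 1 = 2 * l) l le_rfl : Module.End F (Sp (k + 1) F))))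
        (fun i => ?_) ?_ (fun x y hx hy => ?_) (fun r x hx => ?_) w
      · rw [gam_basis, m2 i, if_pos (by omega)]
      · rw [map_zero, mul_zero, zero_mul, neg_zero]
      · rw [map_add, mul_add, add_mul, hx, hy]; abel
      · rw [map_smul, mul_smul_comm, smul_mul_assoc, hx, smul_neg])
    have hnsq : (-1 : (Module.End F (Sp (k + 1) F))ˣ) * -1 = 1 :=
      Units.ext (LinearMap.ext fun f => neg_neg f)
    refine ⟨u, z, hu2, hz2, fun e => hne (by rw [← hz1, e]; rfl), ?_, ?_⟩
    · refine Subtype.ext (Subtype.ext (Prod.ext ?_ ?_))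
      · show z.1.1.1 * z.1.1.1 = 1
        rw [hz1, hnsq]
      · show spinPi b d Q z.1 * spinPi b d Q z.1 = 1
        rw [hz2, one_mul]
    · refine Subtype.ext (Subtype.ext (Prod.ext ?_ ?_))
      · simp only [SubmonoidClass.coe_pow, Subgroup.coe_mul, Prod.fst_mul, Prod.pow_fst]
        rw [hu1, hz1, m3]
      · simp only [SubmonoidClass.coe_pow, Subgroup.coe_mul, Prod.snd_mul, Prod.pow_snd]
        show spinPi b d Q u.1 * spinPi b d Q u.1 = (spinPi b d Q z.1) ^ l
        rw [hu2, hz2, one_pow]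
        exact omv_injective (Units.ext (Matrix.ext_iff_mulVec.2 fun w => by
          show ((omv g * omv g : GL ι F) : Matrix ι ι F) *ᵥ w = _
          rw [gl_mul_mulVec, hg, hg, neg_neg]
          simp [omvHom]))

end CfsgLib.Lie.Mult.Orth
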